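import Mathlib.GroupTheory.Nilpotent
import Mathlib.GroupTheory.Perm.Cycle.Type
import Mathlib.Algebra.Order.BigOperators.Ring.Finset
import Mathlib.RingTheory.Coprime.Lemmas
import Mathlib.Tactic

/-!
# A small centraliser in a coprime action without fixed points

If a nilpotent group `W` acts on a finite abelian group `V` of coprime order without fixed points,
then some element fixes at most `√#V` points: the product of all `#C_V(x)` squared is at most
`#V ^ #W`.
-/

set_option autoImplicit false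
set_option maxHeartbeats 400000

namespace CfsgLib.PrimitiveClassSize

variable {W V : Type*} [Group W] [CommGroup V] (φ : W →* MulAut V)

/-- The points of `U` fixed by `x`. -/
def fx (x : W) (U : Subgroup V) : Subgroup V :=
  U ⊓ MonoidHom.eqLocus (φ x).toMonoidHom (MonoidHom.id V)

theorem mem_fx {x : W} {U : Subgroup V} {u : V} : u ∈ fx φ x U ↔ u ∈ U ∧ φ x u = u := Iff.rfl

theorem act_mul (x y : W) (u : V) : φ (x * y) u = φ x (φ y u) := by
  rw [map_mul, MulAut.mul_apply]

theorem act_one (u : V) : φ 1 u = u := by rw [map_one, MulAut.one_apply]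

/-- The norm along the first `r` powers of `w`. -/
def nm (r : ℕ) (w : W) : V →* V where
  toFun u := ∏ k ∈ Finset.range r, φ (w ^ k) u
  map_one' := by simp
  map_mul' u v := by simp [Finset.prod_mul_distrib]

theorem nm_apply (r : ℕ) (w : W) (u : V) : nm φ r w u = ∏ k ∈ Finset.range r, φ (w ^ k) u := rfl

theorem nm_fixed (r : ℕ) (w : W) (u : V) (h : φ (w ^ r) u = u) :
    φ w (nm φ r w u) = nm φ r w u := by
  have e1 := Finset.prod_range_succ' (fun k => φ (w ^ k) u) r
  have e2 := Finset.prod_range_succ (fun k => φ (w ^ k) u) r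
  rw [e2, h, pow_zero, act_one] at e1
  have e3 := mul_right_cancel e1
  rw [nm_apply, map_prod]
  refine Eq.trans (Finset.prod_congr rfl fun k _ => ?_) e3.symm
  rw [← act_mul, ← pow_succ']

theorem nm_of_fixed (r : ℕ) (w : W) (u : V) (h : φ w u = u) : nm φ r w u = u ^ r := by
  have hk : ∀ k : ℕ, φ (w ^ k) u = u := by
    intro k
    induction k with
    | zero => rw [pow_zero, act_one]
    | succ k ih => rw [pow_succ, act_mul, h, ih]
  rw [nm_apply, Finset.prod_congr rfl fun k _ => hk k, Finset.prod_const, Finset.card_range]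

theorem combine {ι : Type*} [Fintype ι] (f a b : ι → ℕ) {A B C N r : ℕ} (h : ∀ x, f x ≤ a x * b x)
    (ha : (∏ x, a x) ^ 2 ≤ A ^ N) (hb : (∏ x, b x) ^ r ≤ B ^ N) (hr : 2 ≤ r) (hb0 : ∀ x, 0 < b x)
    (hAB : A * B ≤ C) : (∏ x, f x) ^ 2 ≤ C ^ N :=
  calc (∏ x, f x) ^ 2 ≤ (∏ x, a x * b x) ^ 2 :=
        Nat.pow_le_pow_left (Finset.prod_le_prod' fun x _ => h x) 2
    _ = (∏ x, a x) ^ 2 * (∏ x, b x) ^ 2 := by rw [Finset.prod_mul_distrib, mul_pow]
    _ ≤ A ^ N * B ^ N := Nat.mul_le_mul ha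
        (le_trans (Nat.pow_le_pow_right (Finset.prod_pos fun x _ => hb0 x) hr) hb)
    _ = (A * B) ^ N := (mul_pow _ _ _).symm
    _ ≤ C ^ N := Nat.pow_le_pow_left hAB _

theorem prod_pow_le {ι : Type*} [Fintype ι] (g : ι → ℕ) (s : ℕ → Equiv.Perm ι) {B r : ℕ}
    (h : ∀ x, ∏ j ∈ Finset.range r, g (s j x) ≤ B) : (∏ x, g x) ^ r ≤ B ^ Nat.card ι :=
  calc (∏ x, g x) ^ r = ∏ j ∈ Finset.range r, ∏ x, g (s j x) := by
        rw [Finset.prod_congr rfl fun j _ => Equiv.prod_comp (s j) g, Finset.prod_const,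
          Finset.card_range]
    _ = ∏ x, ∏ j ∈ Finset.range r, g (s j x) := Finset.prod_comm
    _ ≤ ∏ _x : ι, B := Finset.prod_le_prod' fun x _ => h x
    _ = B ^ Nat.card ι := by rw [Finset.prod_const, Finset.card_univ, Nat.card_eq_fintype_card]

/-- The product bound. -/
theorem prod_sq_le [Finite W] [Finite V] (hW : Group.IsNilpotent W)
    (hcop : (Nat.card W).Coprime (Nat.card V)) (hfix : ∀ v, (∀ x, φ x v = v) → v = 1)
    [Fintype W] :
    ∀ (n : ℕ) (U : Subgroup V), Nat.card U ≤ n → (∀ x, ∀ u ∈ U, φ x u ∈ U) →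
      (∏ x : W, Nat.card (fx φ x U)) ^ 2 ≤ Nat.card U ^ Nat.card W := by
  classical
  intro n
  induction n using Nat.strong_induction_on with
  | _ n ih => ?_
  intro U hn hinv
  by_cases hU : U = ⊥
  · subst hU
    have : ∀ x, fx φ x (⊥ : Subgroup V) = ⊥ := fun x => bot_unique inf_le_left
    simp [this]
  let K : Subgroup W :=
    { carrier := {x | ∀ u ∈ U, φ x u = u}
      one_mem' := fun u _ => act_one φ u
      mul_mem' := fun {a b} ha hb u hu => by rw [act_mul, hb u hu, ha u hu]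
      inv_mem' := fun {a} ha u hu => by
        calc φ a⁻¹ u = φ a⁻¹ (φ a u) := by rw [ha u hu]
          _ = u := by rw [← act_mul, inv_mul_cancel, act_one] }
  have hKn : K.Normal := ⟨fun a ha g u hu => by
    rw [act_mul, act_mul, ha _ (hinv _ u hu), ← act_mul, mul_inv_cancel, act_one]⟩
  have hKtop : K ≠ ⊤ := by
    intro h
    refine hU ((Subgroup.eq_bot_iff_forall _).mpr fun u hu => hfix u fun x => ?_)
    exact (show x ∈ K by rw [h]; trivial) u hu
  haveI := hW
  haveI : Nontrivial (W ⧸ K) := QuotientGroup.nontrivial_iff.mpr hKtop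
  haveI : Nontrivial (Subgroup.center (W ⧸ K)) :=
    (Subgroup.nontrivial_iff_ne_bot _).mpr (Group.IsNilpotent.center_ne_bot (W ⧸ K))
  obtain ⟨r, hr, hrd⟩ := Nat.exists_prime_and_dvd
    (Finite.one_lt_card (α := Subgroup.center (W ⧸ K))).ne'
  haveI := Fact.mk hr
  obtain ⟨⟨ζ, hζc⟩, hζ⟩ := exists_prime_orderOf_dvd_card' r hrd
  rw [Subgroup.orderOf_mk] at hζ
  obtain ⟨z, rfl⟩ := QuotientGroup.mk'_surjective K ζ
  have hzK : z ∉ K := by
    intro h
    rw [QuotientGroup.mk'_apply, (QuotientGroup.eq_one_iff z).mpr h, orderOf_one] at hζ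
    exact hr.one_lt.ne hζ
  have hzr : z ^ r ∈ K := by
    rw [← QuotientGroup.eq_one_iff, QuotientGroup.mk_pow, ← hζ]
    exact pow_orderOf_eq_one _
  have hcomm : ∀ (x : W) (m : ℤ), ∀ u ∈ U, φ x (φ (z ^ m) u) = φ (z ^ m) (φ x u) := by
    intro x m u hu
    have h1 : (z ^ m * x)⁻¹ * (x * z ^ m) ∈ K := by
      rw [← QuotientGroup.eq, QuotientGroup.mk_mul, QuotientGroup.mk_mul, QuotientGroup.mk_zpow]
      exact ((Subgroup.mem_center_iff.mp (Subgroup.zpow_mem _ hζc m)) x).symm
    rw [← act_mul, ← act_mul, show x * z ^ m = z ^ m * x * ((z ^ m * x)⁻¹ * (x * z ^ m)) by group,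
      act_mul φ (z ^ m * x), h1 u hu]
  have hrW : r ∣ Nat.card W := hrd.trans ((Subgroup.card_subgroup_dvd_card _).trans
    (Subgroup.card_quotient_dvd_card K))
  have hroot : ∀ u : V, u ^ r = 1 → u = 1 := fun u hu => by
    have h1 : orderOf u ∣ r := orderOf_dvd_of_pow_eq_one hu
    have h2 : (r).Coprime (Nat.card V) := hcop.coprime_dvd_left hrW
    exact orderOf_eq_one_iff.mp (Nat.eq_one_of_dvd_coprimes h2 h1 (orderOf_dvd_natCard u))
  -- the two pieces
  set U₁ := fx φ z U with hU₁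
  set U₂ := U ⊓ (nm φ r z).ker with hU₂
  have hU₁inv : ∀ x, ∀ u ∈ U₁, φ x u ∈ U₁ := by
    intro x u hu
    refine ⟨hinv x u hu.1, ?_⟩
    have h2 : φ z u = u := hu.2
    have := hcomm x 1 u hu.1
    rw [zpow_one, h2] at this
    exact this.symm
  have hnmU : ∀ u ∈ U, nm φ r z u ∈ U := fun u hu => by
    rw [nm_apply]; exact U.prod_mem fun k _ => hinv _ u hu
  have hnmx : ∀ x, ∀ u ∈ U, φ x (nm φ r z u) = nm φ r z (φ x u) := by
    intro x u hu
    rw [nm_apply, nm_apply, map_prod]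
    refine Finset.prod_congr rfl fun k _ => ?_
    have := hcomm x k u hu
    rwa [zpow_natCast] at this
  have hlt : Nat.card U₁ < Nat.card U := by
    have hle : U₁ ≤ U := inf_le_left
    refine lt_of_le_of_ne (Subgroup.card_le_of_le hle) fun e => ?_
    have := Subgroup.eq_of_le_of_card_ge hle e.ge
    exact hzK fun u hu => (this ▸ hu : u ∈ U₁).2
  have hih := ih _ (hlt.trans_le hn) U₁ le_rfl hU₁inv
  have hinter : ∀ u, u ∈ U₁ → u ∈ U₂ → u = 1 := fun u h1 h2 => hroot u <| by
    rw [← nm_of_fixed φ r z u h1.2]; exact h2.2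
  -- (a)
  have hsplit : Nat.card U₁ * Nat.card U₂ ≤ Nat.card U := by
    rw [← Nat.card_prod]
    refine Nat.card_le_card_of_injective
      (fun a : U₁ × U₂ => (⟨(a.1 : V) * a.2, U.mul_mem a.1.2.1 a.2.2.1⟩ : U)) ?_
    rintro ⟨⟨a, ha⟩, ⟨b, hb⟩⟩ ⟨⟨c, hc⟩, ⟨d, hd⟩⟩ h
    have h' : a * b = c * d := congrArg Subtype.val h
    have h1 : c⁻¹ * a = d * b⁻¹ := by
      rw [eq_mul_inv_iff_mul_eq, mul_assoc, h', inv_mul_cancel_left]
    have h2 := hinter _ (U₁.mul_mem (U₁.inv_mem hc) ha) (h1 ▸ U₂.mul_mem hd (U₂.inv_mem hb))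
    obtain rfl : a = c := by rw [inv_mul_eq_one] at h2; exact h2.symm
    obtain rfl := mul_left_cancel h'
    rfl
  -- (b)
  have hfxle : ∀ x, Nat.card (fx φ x U) ≤ Nat.card (fx φ x U₁) * Nat.card (fx φ x U₂) := by
    intro x
    set f := (nm φ r z).comp (fx φ x U).subtype with hf
    rw [← f.ker.card_mul_index, Subgroup.index_ker, mul_comm (Nat.card (fx φ x U₁))]
    refine Nat.mul_le_mul ?_ ?_
    · refine Nat.card_le_card_of_injective (fun a : f.ker =>
        (⟨((a : fx φ x U) : V), ⟨⟨a.1.2.1, a.2⟩, a.1.2.2⟩⟩ : fx φ x U₂)) ?_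
      intro a b h
      have h' : ((a : fx φ x U) : V) = ((b : fx φ x U) : V) := by simpa using congrArg Subtype.val h
      exact Subtype.ext (Subtype.ext h')
    · refine Subgroup.card_le_of_le ?_
      rintro _ ⟨⟨u, hu⟩, rfl⟩
      refine ⟨⟨hnmU u hu.1, nm_fixed φ r z u (hzr u hu.1)⟩, ?_⟩
      show φ x (nm φ r z u) = nm φ r z u
      have h2 : φ x u = u := hu.2
      rw [hnmx x u hu.1, h2]
  -- (c)
  have hfree : ∀ d : ℤ, ¬ (r : ℤ) ∣ d → ∀ u ∈ U₂, nm φ r (z ^ d) u = 1 := by
    intro d hd u hu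
    have hmem : nm φ r (z ^ d) u ∈ U₂ := by
      rw [nm_apply]
      refine U₂.prod_mem fun k _ => ⟨hinv _ u hu.1, ?_⟩
      show nm φ r z (φ ((z ^ d) ^ k) u) = 1
      rw [← hnmx _ u hu.1, MonoidHom.mem_ker.mp hu.2, map_one]
    have hfd : φ (z ^ d) (nm φ r (z ^ d) u) = nm φ r (z ^ d) u := by
      refine nm_fixed φ r _ u ?_
      have : (z ^ d) ^ r ∈ K := by
        rw [← zpow_natCast, ← zpow_mul, mul_comm, zpow_mul, zpow_natCast]
        exact K.zpow_mem hzr d
      exact this u hu.1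
    refine hinter _ ⟨hmem.1, ?_⟩ hmem
    set w := nm φ r (z ^ d) u
    have hgcd : Int.gcd d (r : ℤ) = 1 := by
      rw [Int.gcd_comm, Int.gcd_eq_natAbs_gcd_natAbs, Int.natAbs_natCast]
      exact hr.coprime_iff_not_dvd.mpr fun h => hd (Int.natCast_dvd.mpr h)
    obtain ⟨a, b, hab⟩ : ∃ a b : ℤ, a * d + b * r = 1 := Int.isCoprime_iff_gcd_eq_one.mpr hgcd
    let S : Subgroup W :=
      { carrier := {g | φ g w = w}
        one_mem' := act_one φ w
        mul_mem' := fun {p q} hp hq => show φ (p * q) w = w by rw [act_mul, hq, hp]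
        inv_mem' := fun {p} hp => by
          show φ p⁻¹ w = w
          calc φ p⁻¹ w = φ p⁻¹ (φ p w) := by rw [hp]
            _ = w := by rw [← act_mul, inv_mul_cancel, act_one] }
    show z ∈ S
    have h1 : z ^ (a * d + b * r) ∈ S := by
      rw [zpow_add, mul_comm a, zpow_mul, mul_comm b, zpow_mul, zpow_natCast]
      exact S.mul_mem (S.zpow_mem hfd a) (S.zpow_mem (hzr w hmem.1) b)
    rwa [hab, zpow_one] at h1
  have hdirect : ∀ x, ∏ j ∈ Finset.range r, Nat.card (fx φ (x * z ^ j) U₂) ≤ Nat.card U₂ := by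
    intro x
    rw [Finset.prod_range, ← Nat.card_pi]
    let ψ : ((j : Fin r) → fx φ (x * z ^ (j : ℕ)) U₂) →* V :=
      { toFun := fun c => ∏ j, (c j : V)
        map_one' := by simp
        map_mul' := fun a b => by simp [Finset.prod_mul_distrib] }
    refine Nat.card_le_card_of_injective (fun c => (⟨ψ c, show ∏ j, (c j : V) ∈ U₂ from U₂.prod_mem fun j _ => (c j).2.1⟩ : U₂)) ?_
    suffices h : Function.Injective ψ from fun a b e => h (congrArg Subtype.val e)
    refine (injective_iff_map_eq_one ψ).mpr fun c hc => funext fun i => Subtype.ext ?_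
    show (c i : V) = 1
    have hpow : ∀ (j : Fin r) (k : ℕ),
        φ (x ^ k) (c j : V) = φ (z ^ (-(j : ℤ) * k)) (c j : V) := by
      intro j k
      have hcj : (c j : V) ∈ U := (c j).2.1.1
      induction k with
      | zero => simp
      | succ k ihk =>
        have h1 : φ x (c j : V) = φ (z ^ (-(j : ℤ))) (c j : V) := by
          have h0 : φ (x * z ^ (j : ℕ)) (c j : V) = c j := (c j).2.2
          generalize (c j : V) = v at h0 hcj ⊢
          rw [act_mul, show z ^ (j : ℕ) = z ^ ((j : ℕ) : ℤ) from (zpow_natCast z _).symm,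
            hcomm x (j : ℤ) _ hcj] at h0
          have := congrArg (φ (z ^ (-(j : ℤ)))) h0
          rwa [← act_mul, ← zpow_add, neg_add_cancel, zpow_zero, act_one] at this
        rw [pow_succ', act_mul, ihk, hcomm x _ _ hcj, h1, ← act_mul, ← zpow_add]
        congr 3
        push_cast; ring
    have hrel : ∀ k : ℕ, ∏ j : Fin r, φ ((z ^ ((i : ℤ) - j)) ^ k) (c j : V) = 1 := by
      intro k
      have h1 : φ (z ^ ((i : ℤ) * k)) (φ (x ^ k) (ψ c)) = 1 := by rw [hc, map_one, map_one]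
      refine Eq.trans ?_ h1
      rw [show ψ c = ∏ j, (c j : V) from rfl, map_prod, map_prod]
      refine Finset.prod_congr rfl fun j _ => ?_
      rw [hpow, ← act_mul, ← zpow_add, ← zpow_natCast, ← zpow_mul]
      congr 3
      ring
    have h2 : ∏ j : Fin r, nm φ r (z ^ ((i : ℤ) - j)) (c j : V) = 1 := by
      simp only [nm_apply]
      rw [Finset.prod_comm]
      exact Finset.prod_eq_one fun k _ => hrel k
    rw [Finset.prod_eq_single i (fun j _ hj => hfree _ ?_ _ (c j).2.1) (by simp), sub_self,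
      zpow_zero, nm_of_fixed φ r 1 _ (act_one φ _)] at h2
    · exact hroot _ h2
    · intro h
      refine hj (Fin.ext ?_)
      have := Int.eq_zero_of_abs_lt_dvd h (abs_lt.mpr ⟨by have := i.2; have := j.2; omega,
        by have := i.2; have := j.2; omega⟩)
      omega
  -- (d)
  have hP₂ : (∏ x : W, Nat.card (fx φ x U₂)) ^ r ≤ Nat.card U₂ ^ Nat.card W :=
    prod_pow_le (fun x => Nat.card (fx φ x U₂)) (fun j => Equiv.mulRight (z ^ j)) hdirect
  exact combine (fun x => Nat.card (fx φ x U)) _ _ hfxle hih hP₂ hr.two_le (fun x => Nat.card_pos)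
    hsplit

/-- Some element has at most `√#V` fixed points. -/
theorem exists_small_fixed [Finite W] [Finite V] (hW : Group.IsNilpotent W)
    (hcop : (Nat.card W).Coprime (Nat.card V)) (hfix : ∀ v, (∀ x, φ x v = v) → v = 1) :
    ∃ x : W, Nat.card {v : V // φ x v = v} ^ 2 ≤ Nat.card V := by
  classical
  letI : Fintype W := Fintype.ofFinite W
  have h := prod_sq_le φ hW hcop hfix _ ⊤ le_rfl fun _ _ _ => Subgroup.mem_top _
  by_contra hno
  push Not at hno
  refine (lt_of_le_of_lt' h ?_).false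
  rw [← Finset.prod_pow, Subgroup.card_top, Nat.card_eq_fintype_card (α := W), ← Finset.card_univ,
    ← Finset.prod_const]
  refine Finset.prod_lt_prod_of_nonempty (fun _ _ => Nat.card_pos) (fun x _ => ?_) Finset.univ_nonempty
  refine (hno x).trans_le (Nat.pow_le_pow_left (le_of_eq ?_) 2)
  exact Nat.card_congr (Equiv.subtypeEquivRight fun v => by simp [mem_fx])

end CfsgLib.PrimitiveClassSize
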