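import Cfsg.Agent.Lib.PrimitiveClassSize.SolvableAverage
import Cfsg.Agent.Lib.Perm.Isospectral

/-!
# The average fixed point space of an irreducible solvable group

If a finite solvable group acts irreducibly on a finite abelian `p`-group of exponent `p` and order
at least `p ^ 2`, the product of the squares of the numbers of fixed points of its elements is at
most `#V ^ #G`.
-/

set_option autoImplicit false
set_option linter.unusedSectionVars false

namespace CfsgLib.PrimitiveClassSize

variable {G V : Type*} [Group G] [Finite G] [CommGroup V] [Finite V]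

/-- The number of fixed points of an automorphism. -/
noncomputable def nFix (w : MulAut V) : ℕ :=
  Nat.card (MonoidHom.eqLocus w.toMonoidHom (MonoidHom.id V))

theorem prod_nFix_sq_le_of_normal (φ : G →* MulAut V) (A : Subgroup G) [A.Normal]
    (hA : A ≠ ⊥) (hAc : ∀ x ∈ A, ∀ y ∈ A, x * y = y * x) {r : ℕ} [Fact r.Prime]
    (hexp : ∀ x ∈ A, x ^ r = 1) (hcop : (Nat.card A).Coprime (Nat.card V))
    (hfix : ∀ v, (∀ a ∈ A, φ a v = v) → v = 1) [Fintype G] :
    (∏ x : G, nFix (φ x)) ^ 2 ≤ Nat.card V ^ Nat.card G := by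
  classical
  letI : CommGroup A :=
    { (inferInstance : Group A) with mul_comm := fun a b => Subtype.ext (hAc _ a.2 _ b.2) }
  letI : Fintype A := Fintype.ofFinite A
  have hcoset : ∀ x : G, (∏ a : A, nFix (φ (x * a))) ^ 2 ≤ Nat.card V ^ Nat.card A := fun x => by
    have hb := coset_bound (φ.comp A.subtype) (MulAut.conjNormal x) (φ x) (r := r)
      (fun a => Subtype.ext (hexp _ a.2)) ((Subgroup.nontrivial_iff_ne_bot A).mpr hA) hcop
      (fun v hv => hfix v fun a ha => hv ⟨a, ha⟩) (fun a v => by
        show φ x (φ (a : G) v) = φ ((MulAut.conjNormal x a : A) : G) (φ x v)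
        rw [MulAut.conjNormal_apply, ← act_mul, ← act_mul, inv_mul_cancel_right])
    simpa only [nFix, map_mul, MonoidHom.comp_apply, Subgroup.coe_subtype] using hb
  have hall : (∏ x : G, ∏ a : A, nFix (φ (x * a))) = (∏ x : G, nFix (φ x)) ^ Nat.card A := by
    rw [Finset.prod_comm]
    calc ∏ a : A, ∏ x : G, nFix (φ (x * a)) = ∏ _a : A, ∏ x : G, nFix (φ x) :=
          Finset.prod_congr rfl fun a _ =>
            Equiv.prod_comp (Equiv.mulRight ((a : A) : G)) (fun x => nFix (φ x))
      _ = (∏ x : G, nFix (φ x)) ^ Nat.card A := by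
          rw [Finset.prod_const, Finset.card_univ, Nat.card_eq_fintype_card (α := A)]
  refine (Nat.pow_le_pow_iff_left (Nat.card_pos (α := A)).ne').mp ?_
  calc ((∏ x : G, nFix (φ x)) ^ 2) ^ Nat.card A
      = ∏ x : G, (∏ a : A, nFix (φ (x * a))) ^ 2 := by
        rw [Finset.prod_pow, hall, ← pow_mul, ← pow_mul, mul_comm]
    _ ≤ ∏ _x : G, Nat.card V ^ Nat.card A := Finset.prod_le_prod' fun x _ => hcoset x
    _ = (Nat.card V ^ Nat.card G) ^ Nat.card A := by
        rw [Finset.prod_const, Finset.card_univ, ← pow_mul, ← pow_mul,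
          Nat.card_eq_fintype_card (α := G), mul_comm]

/-- The product bound for an irreducible solvable action on a module of order above `p`. -/
theorem prod_nFix_sq_le (φ : G →* MulAut V) (hsolv : Group.IsSolvable G) {p n : ℕ} [Fact p.Prime]
    (hcard : Nat.card V = p ^ n) (hn : 2 ≤ n)
    (hirr : ∀ U : Subgroup V, (∀ g, ∀ u ∈ U, φ g u ∈ U) → U = ⊥ ∨ U = ⊤) [Fintype G] :
    (∏ x : G, nFix (φ x)) ^ 2 ≤ Nat.card V ^ Nat.card G := by
  classical
  have hp : p.Prime := Fact.out
  letI : Fintype φ.range := Fintype.ofFinite _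
  haveI : Group.IsSolvable φ.range := Group.isSolvable_of_surjective φ.rangeRestrict_surjective
  have htop : (⊤ : Subgroup φ.range) ≠ ⊥ := by
    intro h
    have htriv : ∀ g : G, φ g = 1 := fun g => by
      have h0 : φ.rangeRestrict g ∈ (⊥ : Subgroup φ.range) := h ▸ Subgroup.mem_top _
      exact congrArg Subtype.val (Subgroup.mem_bot.mp h0)
    obtain ⟨v, hv⟩ := exists_prime_orderOf_dvd_card' (G := V) p
      (hcard ▸ dvd_pow_self p (by omega))
    rcases hirr (Subgroup.zpowers v) (fun g u hu => by rwa [htriv, MulAut.one_apply]) with e | e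
    · rw [Subgroup.zpowers_eq_bot] at e
      rw [e, orderOf_one] at hv
      exact hp.one_lt.ne hv
    · have h1 : Nat.card V = p := by rw [← Subgroup.card_top, ← e, Nat.card_zpowers, hv]
      rw [hcard] at h1
      have := Nat.pow_right_injective hp.two_le (show p ^ n = p ^ 1 by rw [h1, pow_one])
      omega
  haveI : Group.IsSolvable (⊤ : Subgroup φ.range) := inferInstance
  obtain ⟨A, r, hr, hAn, hA, hAc, hAexp⟩ := CfsgLib.Isospectral.exists_elementary ⊤ htop
  haveI := hAn
  haveI := Fact.mk hr
  let ψ : φ.range →* MulAut V := φ.range.subtype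
  let CA : Subgroup V :=
    { carrier := {v | ∀ a ∈ A, ψ a v = v}
      one_mem' := fun a _ => map_one _
      mul_mem' := fun {x y} hx hy a ha => by rw [map_mul, hx a ha, hy a ha]
      inv_mem' := fun {x} hx a ha => by rw [map_inv, hx a ha] }
  have hCA : CA = ⊥ := by
    refine (hirr CA fun g u hu a ha => ?_).resolve_right fun h => hA ?_
    · have h1 := hu ((φ.rangeRestrict g)⁻¹ * a * φ.rangeRestrict g)
        (by simpa using hAn.conj_mem a ha (φ.rangeRestrict g)⁻¹)
      calc ψ a (φ g u) = ψ (φ.rangeRestrict g * ((φ.rangeRestrict g)⁻¹ * a * φ.rangeRestrict g)) u := by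
            rw [mul_assoc, mul_inv_cancel_left, act_mul]; rfl
        _ = φ g u := by rw [act_mul, h1]; rfl
    · refine (Subgroup.eq_bot_iff_forall A).mpr fun a ha => Subtype.ext (MulEquiv.ext fun v => ?_)
      exact (h ▸ Subgroup.mem_top v : v ∈ CA) a ha
  have hfix : ∀ v, (∀ a ∈ A, ψ a v = v) → v = 1 := fun v hv =>
    Subgroup.mem_bot.mp (hCA ▸ hv : v ∈ (⊥ : Subgroup V))
  have hAr : IsPGroup r A := fun a => ⟨1, Subtype.ext (by simpa using hAexp _ a.2)⟩
  have hrp : r ≠ p := by
    rintro rfl
    letI : MulAction A V :=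
      { smul := fun a v => ψ a v
        one_smul := fun v => act_one ψ v
        mul_smul := fun a b v => act_mul ψ a b v }
    obtain ⟨b, hb, hb1⟩ := hAr.exists_fixed_point_of_prime_dvd_card_of_fixed_point V
      (hcard ▸ dvd_pow_self r (by omega)) (a := 1) (fun a => map_one (ψ a))
    exact hb1 (hfix b fun a ha => hb ⟨a, ha⟩).symm
  obtain ⟨k, hk⟩ := IsPGroup.iff_card.mp hAr
  have hcop : (Nat.card A).Coprime (Nat.card V) := by
    rw [hk, hcard]; exact ((Nat.coprime_primes hr hp).mpr hrp).pow k n
  have hW := prod_nFix_sq_le_of_normal ψ A hA hAc hAexp hcop hfix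
  set P := ∏ x : G, nFix (φ x) with hP
  set Q := ∏ w : φ.range, nFix (ψ w) with hQ
  have hPQ : P ^ Nat.card φ.range = Q ^ Nat.card G := by
    calc P ^ Nat.card φ.range = ∏ w : φ.range, ∏ g : G, nFix (ψ (w * φ.rangeRestrict g)) := by
          rw [Nat.card_eq_fintype_card, ← Finset.card_univ, ← Finset.prod_const]
          refine Finset.prod_congr rfl fun w _ => ?_
          obtain ⟨h, rfl⟩ := φ.rangeRestrict_surjective w
          rw [hP, ← Equiv.prod_comp (Equiv.mulLeft h)]
          refine Finset.prod_congr rfl fun g _ => congrArg nFix ?_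
          show φ (h * g) = φ h * φ g
          exact map_mul φ h g
      _ = ∏ g : G, ∏ w : φ.range, nFix (ψ (w * φ.rangeRestrict g)) := Finset.prod_comm
      _ = ∏ _g : G, Q := Finset.prod_congr rfl fun g _ =>
            Equiv.prod_comp (Equiv.mulRight (φ.rangeRestrict g)) (fun w => nFix (ψ w))
      _ = Q ^ Nat.card G := by
          rw [Finset.prod_const, Finset.card_univ, Nat.card_eq_fintype_card]
  refine (Nat.pow_le_pow_iff_left (Nat.card_pos (α := φ.range)).ne').mp ?_
  calc (P ^ 2) ^ Nat.card φ.range = (Q ^ 2) ^ Nat.card G := by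
        rw [← pow_mul, mul_comm, pow_mul, hPQ, ← pow_mul, mul_comm, pow_mul]
    _ ≤ (Nat.card V ^ Nat.card φ.range) ^ Nat.card G := Nat.pow_le_pow_left hW _
    _ = (Nat.card V ^ Nat.card G) ^ Nat.card φ.range := by rw [← pow_mul, ← pow_mul, mul_comm]

end CfsgLib.PrimitiveClassSize
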