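import Cfsg.Agent.Lib.Char.MaximalInduced
import Cfsg.Agent.Lib.Char.Artin
import Cfsg.Agent.Lib.PrimitiveClassSize.ChiefAverage

/-!
# The `p`-part of the degree of a quasi-primitive character of a solvable group

For a quasi-primitive character `χ` of a solvable group and a normal subgroup `N` with
`χ|N = f • θ`, the sum over `g` of the `p`-adic values of the class sizes of `g N` in `G / N` is at
least `#G` times the value of `f`.  Hence some class size has `p`-part at least that of `χ 1`.
-/

set_option autoImplicit false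
set_option linter.unusedSectionVars false

namespace CfsgLib.PrimitiveClassSize

open Cfsg CfsgLib.Char
open scoped CfsgLib.Char

universe u

variable {G : Type u} [Group G]

/-- The centraliser of `g` modulo `N`. -/
def qcent (N : Subgroup G) [N.Normal] (g : G) : Subgroup G :=
  (Subgroup.centralizer ({(g : G ⧸ N)} : Set (G ⧸ N))).comap (QuotientGroup.mk' N)

theorem mem_qcent {N : Subgroup G} [N.Normal] {g x : G} :
    x ∈ qcent N g ↔ x * g * x⁻¹ * g⁻¹ ∈ N := by
  rw [qcent, Subgroup.mem_comap, Subgroup.mem_centralizer_singleton_iff, QuotientGroup.mk'_apply,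
    ← QuotientGroup.eq_one_iff, QuotientGroup.mk_mul, QuotientGroup.mk_mul, QuotientGroup.mk_mul,
    QuotientGroup.mk_inv, QuotientGroup.mk_inv, mul_inv_eq_one, mul_inv_eq_iff_eq_mul]

theorem qcent_bot (g : G) : qcent (⊥ : Subgroup G) g = Subgroup.centralizer {g} := by
  ext x
  rw [mem_qcent, Subgroup.mem_bot, Subgroup.mem_centralizer_singleton_iff, mul_inv_eq_one,
    mul_inv_eq_iff_eq_mul]

theorem qcent_mono {N M : Subgroup G} [N.Normal] [M.Normal] (h : N ≤ M) (g : G) :
    qcent N g ≤ qcent M g := fun _ hx => mem_qcent.mpr (h (mem_qcent.mp hx))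

theorem le_qcent (M : Subgroup G) [hM : M.Normal] (g : G) : M ≤ qcent M g := fun x hx =>
  mem_qcent.mpr (by
    rw [show x * g * x⁻¹ * g⁻¹ = x * (g * x⁻¹ * g⁻¹) by group]
    exact M.mul_mem hx (hM.conj_mem _ (M.inv_mem hx) g))

theorem fact_add [Finite G] {N M : Subgroup G} [N.Normal] [M.Normal] (h : N ≤ M) (g : G) (p : ℕ) :
    (qcent M g).index.factorization p + ((qcent N g).relIndex M).factorization p ≤
      (qcent N g).index.factorization p := by
  have hle := qcent_mono h g
  have hrel : (qcent N g).relIndex (M ⊔ qcent N g) = (qcent N g).relIndex M := by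
    have e1 := CfsgLib.Coprime.card_sup_mul_card_inf (K := M) (S := qcent N g)
      Subgroup.le_normalizer_of_normal
    have e2 := CfsgLib.Coprime.relIndex_mul_card_inf (qcent N g) (M ⊔ qcent N g)
    have e3 := CfsgLib.Coprime.relIndex_mul_card_inf (qcent N g) M
    rw [inf_eq_left.mpr (le_sup_right : qcent N g ≤ M ⊔ qcent N g)] at e2
    rw [inf_comm] at e1
    refine Nat.eq_of_mul_eq_mul_right
      (Nat.mul_pos (Nat.card_pos (α := qcent N g)) (Nat.card_pos (α := ↥(qcent N g ⊓ M)))) ?_
    rw [← mul_assoc, e2, e1, mul_comm (Nat.card M), ← e3]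
    ring
  have hd : (qcent N g).relIndex M * (qcent M g).index ∣ (qcent N g).index := by
    rw [← Subgroup.relIndex_mul_index hle, ← hrel,
      ← Subgroup.relIndex_mul_relIndex _ _ _ (le_sup_right : qcent N g ≤ M ⊔ qcent N g)
        (sup_le (le_qcent M g) hle), mul_assoc]
    exact Nat.mul_dvd_mul_left _ (dvd_mul_left _ _)
  have hd' := (Nat.factorization_le_iff_dvd
    (Nat.mul_ne_zero (Nat.pos_of_dvd_of_pos (Subgroup.relIndex_dvd_card _ _) Nat.card_pos).ne'
      (qcent M g).index_ne_zero_of_finite) (qcent N g).index_ne_zero_of_finite).mpr hd p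
  rw [Nat.factorization_mul (Nat.pos_of_dvd_of_pos (Subgroup.relIndex_dvd_card _ _) Nat.card_pos).ne'
    (qcent M g).index_ne_zero_of_finite, Finsupp.add_apply] at hd'
  omega

/-- On a chief factor of `p`-power order at least `p ^ 2` the codimensions of the fixed points
average to at least half. -/
theorem two_mul_sum_ge [Fintype G] (hsolv : Group.IsSolvable G) {N M : Subgroup G} [N.Normal]
    [M.Normal] (hNM : N ≤ M) {p n : ℕ} [Fact p.Prime] (hrel : N.relIndex M = p ^ n) (hn : 2 ≤ n)
    (hmin : ∀ U : Subgroup G, U.Normal → N ≤ U → U ≤ M → U = N ∨ U = M)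
    (hab : ∀ a ∈ M, ∀ b ∈ M, a * b * a⁻¹ * b⁻¹ ∈ N) :
    Nat.card G * n ≤ 2 * ∑ g : G, ((qcent N g).relIndex M).factorization p := by
  classical
  have hp : p.Prime := Fact.out
  set f := QuotientGroup.mk' N with hf
  have hfs : Function.Surjective f := QuotientGroup.mk'_surjective N
  set V := M.map f with hV
  haveI : V.Normal := Subgroup.Normal.map inferInstance f hfs
  letI : CommGroup V :=
    { (inferInstance : Group V) with
      mul_comm := fun a b => by
        obtain ⟨x, hx, ex⟩ := a.2
        obtain ⟨y, hy, ey⟩ := b.2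
        refine Subtype.ext (commutatorElement_eq_one_iff_mul_comm.mp ?_)
        rw [← ex, ← ey, ← map_commutatorElement, hf, QuotientGroup.mk'_apply,
          QuotientGroup.eq_one_iff, commutatorElement_def]
        exact hab x hx y hy }
  have hcardV : Nat.card V = p ^ n := by
    rw [← hrel, ← Subgroup.relIndex_bot_left, hV, ← Subgroup.relIndex_comap, MonoidHom.comap_bot,
      hf, QuotientGroup.ker_mk']
  let φ : G →* MulAut V := (MulAut.conjNormal (H := V)).comp f
  have hφ : ∀ g (v : V), ((φ g v : V) : G ⧸ N) = f g * v * (f g)⁻¹ := fun g v =>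
    MulAut.conjNormal_apply _ _
  have hirr : ∀ U : Subgroup V, (∀ g, ∀ u ∈ U, φ g u ∈ U) → U = ⊥ ∨ U = ⊤ := by
    intro U hU
    set W := (U.map V.subtype).comap f with hW
    have hWn : W.Normal := ⟨fun x hx g => by
      obtain ⟨u, hu, eu⟩ := hx
      refine ⟨φ g u, hU g u hu, ?_⟩
      rw [Subgroup.coe_subtype, hφ, map_mul, map_mul, map_inv]
      rw [show (u : G ⧸ N) = f x from eu]⟩
    have hNW : N ≤ W := fun x hx => by
      rw [hW, Subgroup.mem_comap, hf, QuotientGroup.mk'_apply, (QuotientGroup.eq_one_iff x).mpr hx]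
      exact one_mem _
    have hWM : W ≤ M := fun x hx => by
      obtain ⟨⟨u, y, hy, ey⟩, hu, eu⟩ := hx
      have h1 : y⁻¹ * x ∈ N := QuotientGroup.eq.mp (ey.trans eu)
      simpa using M.mul_mem hy (hNM h1)
    have hback : U.map V.subtype = W.map f := (Subgroup.map_comap_eq_self_of_surjective hfs _).symm
    rcases hmin W hWn hNW hWM with e | e
    · left
      rw [← Subgroup.map_eq_bot_iff_of_injective U V.subtype_injective, hback, e, hf,
        QuotientGroup.map_mk'_self]
    · right
      refine Subgroup.map_injective V.subtype_injective ?_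
      rw [hback, e, ← MonoidHom.range_eq_map, V.range_subtype]
  have hd : ∀ g, nFix (φ g) * (qcent N g).relIndex M = p ^ n := by
    intro g
    rw [qcent, Subgroup.relIndex_comap, ← hcardV]
    set Cg := Subgroup.centralizer ({(g : G ⧸ N)} : Set (G ⧸ N))
    rw [Subgroup.relIndex, ← (Cg.subgroupOf V).card_mul_index]
    congr 1
    refine Nat.card_congr (Equiv.subtypeEquivRight fun v => ?_)
    show φ g v = v ↔ v ∈ Cg.subgroupOf V
    rw [Subgroup.mem_subgroupOf, Subgroup.mem_centralizer_singleton_iff, Subtype.ext_iff, hφ,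
      mul_inv_eq_iff_eq_mul]
    exact eq_comm
  have hdd : ∀ g, ∃ d, (qcent N g).relIndex M = p ^ d := fun g =>
    ((Nat.dvd_prime_pow hp).mp (Dvd.intro_left _ (hd g))).imp fun _ h => h.2
  choose d hdd using hdd
  have hprod := prod_nFix_sq_le φ hsolv hcardV hn hirr
  have htot : (∏ g : G, nFix (φ g)) ^ 2 * (p ^ (∑ g : G, d g)) ^ 2 =
      (p ^ n) ^ Nat.card G * (p ^ n) ^ Nat.card G := by
    rw [← mul_pow, ← Finset.prod_pow_eq_pow_sum, ← Finset.prod_mul_distrib,
      Finset.prod_congr rfl fun g _ => (hdd g ▸ hd g : nFix (φ g) * p ^ d g = p ^ n),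
      Finset.prod_const, Finset.card_univ, Nat.card_eq_fintype_card (α := G), pow_two]
  rw [hcardV] at hprod
  have hge : (p ^ n) ^ Nat.card G ≤ (p ^ (∑ g : G, d g)) ^ 2 := by
    refine Nat.le_of_mul_le_mul_left ?_ (pow_pos (pow_pos hp.pos n) (Nat.card G))
    rw [← htot]
    exact Nat.mul_le_mul_right _ hprod
  rw [← pow_mul, ← pow_mul, Nat.pow_le_pow_iff_right hp.one_lt] at hge
  rw [Finset.sum_congr rfl fun g _ => (by rw [hdd g, hp.factorization_pow, Finsupp.single_eq_same] :
    ((qcent N g).relIndex M).factorization p = d g)]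
  linarith [hge, mul_comm n (Nat.card G)]

/-- The induction along a chief series. -/
theorem sum_class_ge [Fintype G] (hsolv : Group.IsSolvable G) {χ : G → ℂ} (hχ : IsIrrCharacter G χ)
    (hqp : ∀ N : Subgroup G, N.Normal → ∃ (ϑ : N → ℂ) (e : ℕ), IsIrrCharacter N ϑ ∧
      (fun n : N => χ n) = (e : ℂ) • ϑ) (p : ℕ) [Fact p.Prime] :
    ∀ (n : ℕ) (N : Subgroup G) [N.Normal], N.index = n → ∀ (θ : N → ℂ) (f : ℕ),
      IsIrrCharacter N θ → (fun x : N => χ x) = (f : ℂ) • θ →
      Nat.card G * f.factorization p ≤ ∑ g : G, (qcent N g).index.factorization p := by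
  classical
  haveI := hsolv
  intro n
  induction n using Nat.strong_induction_on with
  | _ n ih => ?_
  intro N hNn hn θ f hθ hres
  haveI : Fintype N := Fintype.ofFinite N
  have hχcl := isClassFunction_of_isCharacter (isCharacter_of_isIrr hχ)
  by_cases hN : N = ⊤
  · subst hN
    have h1 : classInner (fun m : (⊤ : Subgroup G) => χ m) (fun m : (⊤ : Subgroup G) => χ m) = 1 :=
      (classInner_comp_mulEquiv Subgroup.topEquiv χ χ).trans (classInner_irr_self hχ)
    rw [hres, classInner_smul_left, classInner_smul_right, classInner_irr_self hθ,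
      Complex.conj_natCast, mul_one, ← Nat.cast_mul, Nat.cast_eq_one] at h1
    rw [(mul_eq_one.mp h1).1]
    simp
  have hf0 : (f : ℂ) ≠ 0 := by
    intro h
    have h1 := congrFun hres 1
    rw [h, zero_smul] at h1
    exact irr_degree_ne_zero hχ h1
  obtain ⟨M, s, k, hMn, hNM, hs, hrel, hmin, hab⟩ := exists_step_over N hN inferInstance
  haveI := hMn
  haveI : Fintype M := Fintype.ofFinite M
  obtain ⟨η, e, hη, hMres⟩ := hqp M hMn
  have hidx : N.relIndex M * M.index = N.index := Subgroup.relIndex_mul_index hNM.le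
  have hlt : M.index < n := by
    rw [← hn, ← hidx]
    refine lt_mul_of_one_lt_left (Nat.pos_of_ne_zero M.index_ne_zero_of_finite) ?_
    rcases Nat.lt_or_ge 1 (N.relIndex M) with h | h
    · exact h
    · have h0 : 0 < N.relIndex M := by rw [hrel]; exact pow_pos hs.pos k
      exact absurd (Subgroup.relIndex_eq_one.mp (by omega)) hNM.not_ge
  have hrec := ih _ hlt M rfl η e hη hMres
  set N' := N.subgroupOf M with hN'
  haveI : Fintype N' := Fintype.ofFinite N'
  set ι : N' ≃* N := Subgroup.subgroupOfEquivOfLe hNM.le with hι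
  set θ' : N' → ℂ := fun x => θ (ι x) with hθ'
  have hθ'irr : IsIrrCharacter N' θ' := isIrrCharacter_comp_mulEquiv ι hθ
  have hθ'inv : ∀ x, conjBy N' θ' x = θ' := by
    intro x
    funext y
    refine mul_left_cancel₀ hf0 ?_
    have h1 := congrFun hres (ι ⟨x * (y : M) * x⁻¹, Subgroup.Normal.conj_mem inferInstance _ y.2 x⟩)
    have h2 := congrFun hres (ι y)
    simp only [Pi.smul_apply, smul_eq_mul] at h1 h2
    rw [conjBy_apply]
    simp only [hθ']
    rw [← h1, ← h2]
    exact hχcl ((y : M) : G) (x : G)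
  have hcompare : ∀ y : N', (e : ℂ) * η (y : M) = (f : ℂ) * θ' y := by
    intro y
    have h1 := congrFun hMres (y : M)
    have h2 := congrFun hres (ι y)
    simp only [Pi.smul_apply, smul_eq_mul] at h1 h2
    simp only [hθ']
    rw [← h1, ← h2]
    rfl
  obtain ⟨j, hj⟩ := exists_nat_classInner (isCharacter_restrict N' (isCharacter_of_isIrr hη))
    (isCharacter_of_isIrr hθ'irr)
  have hej : e * j = f := by
    have h : (e : ℂ) * classInner (fun y : N' => η y) θ' = (f : ℂ) := by
      rw [← classInner_smul_left, show (e : ℂ) • (fun y : N' => η y) = (f : ℂ) • θ' from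
        funext hcompare, classInner_smul_left, classInner_irr_self hθ'irr, mul_one]
    rw [hj] at h
    exact_mod_cast h
  have hj0 : j ≠ 0 := fun h => hf0 (by rw [← hej, h, mul_zero, Nat.cast_zero])
  have he0 : e ≠ 0 := fun h => hf0 (by rw [← hej, h, zero_mul, Nat.cast_zero])
  have hab' : ∀ x y : M, x * y * x⁻¹ * y⁻¹ ∈ N' := fun x y => by
    rw [hN', Subgroup.mem_subgroupOf]
    simpa using hab _ x.2 _ y.2
  obtain ⟨j', Cs, -, hj', -, hjidx, -, -⟩ := invariant_decomposition N' hab' hθ'irr hθ'inv hη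
    (by convert (hj ▸ Nat.cast_ne_zero.mpr hj0 : classInner (fun y : N' => η y) θ' ≠ 0))
  replace hj' : j = j' := Nat.cast_injective (R := ℂ) (hj.symm.trans (by convert hj'))
  subst hj'
  have hjs : j ^ 2 ∣ s ^ k := by
    rw [← hrel]
    exact ⟨Cs.card, hjidx.symm⟩
  rw [← hej, Nat.factorization_mul he0 hj0, Finsupp.add_apply, mul_add]
  have hmono : ∀ g : G, (qcent M g).index.factorization p +
      ((qcent N g).relIndex M).factorization p ≤ (qcent N g).index.factorization p := fun g =>
    fact_add hNM.le g p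
  have hsum := Finset.sum_le_sum fun g (_ : g ∈ (Finset.univ : Finset G)) => hmono g
  rw [Finset.sum_add_distrib] at hsum
  rcases eq_or_ne (j.factorization p) 0 with hj1 | hj1
  · rw [hj1, mul_zero, add_zero]
    exact hrec.trans ((Nat.le_add_right _ _).trans hsum)
  · have hpj : p ∣ j := Nat.dvd_of_factorization_pos hj1
    obtain rfl : p = s := (Nat.prime_dvd_prime_iff_eq Fact.out hs).mp
      ((Fact.out : p.Prime).dvd_of_dvd_pow ((hpj.trans (dvd_pow_self j two_ne_zero)).trans hjs))
    have h2 := (Nat.factorization_le_iff_dvd (pow_ne_zero 2 hj0)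
      (pow_ne_zero k hs.ne_zero)).mpr hjs p
    rw [Nat.factorization_pow, hs.factorization_pow, Finsupp.single_eq_same, Finsupp.smul_apply,
      smul_eq_mul] at h2
    have hk : 2 ≤ k := le_trans (by omega) h2
    have h3 := two_mul_sum_ge hsolv hNM.le hrel hk hmin hab
    have h4 : Nat.card G * (2 * j.factorization p) ≤ Nat.card G * k := Nat.mul_le_mul_left _ h2
    linarith [hrec, hsum]

/-- A quasi-primitive character of a solvable group has degree with `p`-part at most that of some
class size. -/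
theorem exists_class_ge [Fintype G] (hsolv : Group.IsSolvable G) {χ : G → ℂ}
    (hχ : IsIrrCharacter G χ)
    (hqp : ∀ N : Subgroup G, N.Normal → ∃ (ϑ : N → ℂ) (e : ℕ), IsIrrCharacter N ϑ ∧
      (fun n : N => χ n) = (e : ℂ) • ϑ) (p : ℕ) [Fact p.Prime] :
    ∃ g : G, (charDegree χ).factorization p ≤
      (Subgroup.centralizer ({g} : Set G)).index.factorization p := by
  classical
  obtain ⟨θ, e, hθ, hres⟩ := hqp ⊥ inferInstance
  haveI : Fintype (⊥ : Subgroup G) := Fintype.ofFinite _
  have h1 : θ 1 = 1 := degree_one_of_comm (fun a b => Subsingleton.elim _ _) ⟨θ, hθ⟩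
  have he : χ 1 = (e : ℂ) := by
    have := congrFun hres 1
    simpa [h1] using this
  have hsum := sum_class_ge hsolv hχ hqp p _ ⊥ rfl θ e hθ hres
  simp only [qcent_bot] at hsum
  rw [show charDegree χ = e by simp [charDegree, he]]
  by_contra hno
  push Not at hno
  have hlt := Finset.sum_lt_sum_of_nonempty (Finset.univ_nonempty (α := G)) fun g _ => hno g
  rw [Finset.sum_const, Finset.card_univ, smul_eq_mul, ← Nat.card_eq_fintype_card] at hlt
  omega

/-- A primitive character restricts homogeneously to every normal subgroup. -/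
theorem quasiPrimitive_of_primitive [Fintype G] {χ : G → ℂ} (hχ : IsIrrCharacter G χ)
    (hprim : ¬ ∃ H : Subgroup G, H ≠ ⊤ ∧ ∃ θ : H → ℂ, IsCharacter H θ ∧ indFun H θ = χ)
    (N : Subgroup G) (hNn : N.Normal) :
    ∃ (ϑ : N → ℂ) (e : ℕ), IsIrrCharacter N ϑ ∧ (fun n : N => χ n) = (e : ℂ) • ϑ := by
  classical
  haveI : Fintype N := Fintype.ofFinite N
  obtain ⟨θ, hθ⟩ := exists_constituent N (isCharacter_of_isIrr hχ) (irr_degree_ne_zero hχ)
  haveI : Fintype (inertia N (θ : N → ℂ)) := Fintype.ofFinite _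
  have hT : inertia N (θ : N → ℂ) = ⊤ := by
    by_contra hne
    obtain ⟨ψ, hψ, hind, -⟩ := clifford_correspondence_surjective N (inertia N (θ : N → ℂ)) θ.2
      (fun g => mem_inertia N) (le_inertia N (isClassFunction_irr θ)) hχ hθ
    exact hprim ⟨_, hne, ψ, isCharacter_of_isIrr hψ, hind⟩
  have hres := clifford_invariant N hχ θ.2
    (fun g => (mem_inertia N).mp (hT ▸ Subgroup.mem_top g)) hθ
  obtain ⟨e, he⟩ := exists_nat_classInner (isCharacter_restrict N (isCharacter_of_isIrr hχ))
    (isCharacter_of_isIrr θ.2)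
  exact ⟨θ, e, θ.2, by convert he ▸ hres⟩

end CfsgLib.PrimitiveClassSize
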