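import Cfsg.Agent.Lib.Char.RelativeMGroup
import Cfsg.Agent.Lib.Char.AGroupMonomial
import Cfsg.Agent.Lib.Char.Projective
import Cfsg.Agent.Lib.Char.Codegree
import Cfsg.Agent.Lib.Char.Kernel
import Cfsg.Agent.Lib.Char.Artin
import Cfsg.Agent.Lib.Blocks.Inflate
import Cfsg.Agent.Lib.Critical.Basic
import Cfsg.Agent.Lib.Fitting.Basic
import Cfsg.Agent.Lib.FixBound.Nilpotent
import Cfsg.Agent.Lib.PrimitiveClassSize.Average

/-!
# Primitive characters of metanilpotent `{p, q}`-groups divide a class size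
-/

set_option autoImplicit false
set_option linter.unusedSectionVars false
set_option maxHeartbeats 800000

namespace CfsgLib.PrimitiveClassSize

open Cfsg CfsgLib.Char
open scoped commutatorElement CfsgLib.Char

universe u

variable {G : Type u} [Group G] [Finite G]

/-- Above a normal subgroup with nilpotent quotient the chief factors have prime order. -/
theorem nonSquareChief (N : Subgroup G) [N.Normal] (hnil : Group.IsNilpotent (G ⧸ N)) :
    RelativeMGroup.NonSquareChief N := by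
  intro H K L hNL hLK hKH hK hL hmin hsq
  haveI : (L.subgroupOf H).Normal := ⟨fun l hl h => hL h h.2 _ hl⟩
  haveI : (N.subgroupOf H).Normal := Subgroup.normal_subgroupOf
  haveI := hnil
  haveI : Group.IsNilpotent (H ⧸ N.subgroupOf H) := by
    have hinj : Function.Injective (QuotientGroup.map (N.subgroupOf H) N H.subtype le_rfl) := by
      rw [← MonoidHom.ker_eq_bot_iff, eq_bot_iff]
      intro x hx
      induction x using QuotientGroup.induction_on with
      | _ x =>
        rw [MonoidHom.mem_ker] at hx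
        change ((x : G) : G ⧸ N) = 1 at hx
        rw [QuotientGroup.eq_one_iff] at hx
        rw [Subgroup.mem_bot, QuotientGroup.eq_one_iff]
        exact hx
    haveI : Group.IsNilpotent (G ⧸ N) := hnil
    exact Group.nilpotent_of_mulEquiv (MonoidHom.ofInjective hinj).symm
  haveI : Group.IsNilpotent (H ⧸ L.subgroupOf H) :=
    Group.nilpotent_of_surjective (QuotientGroup.map (N.subgroupOf H) (L.subgroupOf H)
      (MonoidHom.id H) fun x hx => hNL hx) fun x => by
        induction x using QuotientGroup.induction_on with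
        | _ x => exact ⟨(x : H ⧸ N.subgroupOf H), rfl⟩
  set π := QuotientGroup.mk' (L.subgroupOf H) with hπ
  set Kb := (K.subgroupOf H).map π with hKb
  haveI : (K.subgroupOf H).Normal := ⟨fun k hk h => hK h h.2 _ hk⟩
  haveI : Kb.Normal := Subgroup.Normal.map inferInstance π (QuotientGroup.mk'_surjective _)
  have hKne : Kb ≠ ⊥ := by
    rw [hKb, Ne, Subgroup.map_eq_bot_iff, hπ, QuotientGroup.ker_mk']
    exact fun h => hLK.not_ge fun k hk => h (show (⟨k, hKH hk⟩ : H) ∈ K.subgroupOf H from hk)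
  have hI : Kb ⊓ Subgroup.center _ ≠ ⊥ := Critical.inf_center_ne_bot Kb hKne
  obtain ⟨s, hs, hsd⟩ := Nat.exists_prime_and_dvd (mt Subgroup.card_eq_one.mp hI)
  haveI := Fact.mk hs
  obtain ⟨t, ht⟩ := exists_prime_orderOf_dvd_card'
    (G := ↥(Kb ⊓ Subgroup.center (H ⧸ L.subgroupOf H))) s hsd
  obtain ⟨c, hcK, hcc, hc⟩ : ∃ c, c ∈ Kb ∧ c ∈ Subgroup.center (H ⧸ L.subgroupOf H) ∧ orderOf c = s :=
    ⟨t, t.2.1, t.2.2, by rw [← ht]; exact Subgroup.orderOf_coe t⟩
  set M := ((Subgroup.zpowers c).comap π).map H.subtype with hM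
  have hcn : (Subgroup.zpowers c).Normal := ⟨fun x hx g => by
    have hx' := Subgroup.mem_center_iff.mp ((Subgroup.zpowers_le.mpr hcc) hx) g
    rw [hx', mul_inv_cancel_right]; exact hx⟩
  have hMK : M ≤ K := by
    rintro _ ⟨x, hx, rfl⟩
    obtain ⟨k, hk, e⟩ := (Subgroup.zpowers_le.mpr hcK) hx
    have h1 : k⁻¹ * x ∈ L.subgroupOf H := QuotientGroup.eq.mp e
    have := K.mul_mem (show (k : G) ∈ K from hk) (hLK.le h1)
    simpa using this
  have hLM : L ≤ M := fun l hl => ⟨⟨l, hKH (hLK.le hl)⟩, Subgroup.mem_comap.mpr (by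
    rw [hπ, QuotientGroup.mk'_apply,
      (QuotientGroup.eq_one_iff (N := L.subgroupOf H) (⟨l, hKH (hLK.le hl)⟩ : H)).mpr hl]
    exact one_mem _), rfl⟩
  rcases hmin M hLM hMK (fun h hh m hm => by
    obtain ⟨x, hx, rfl⟩ := hm
    exact ⟨⟨h, hh⟩ * x * ⟨h, hh⟩⁻¹,
      (Subgroup.Normal.comap hcn π).conj_mem x hx ⟨h, hh⟩, rfl⟩) with e | e
  · obtain ⟨x, hx⟩ := QuotientGroup.mk'_surjective (L.subgroupOf H) c
    have h1 : (x : G) ∈ L := e ▸ ⟨x, Subgroup.mem_comap.mpr (hx ▸ Subgroup.mem_zpowers c), rfl⟩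
    rw [← hx, QuotientGroup.mk'_apply, (QuotientGroup.eq_one_iff x).mpr h1, orderOf_one] at hc
    exact hs.one_lt.ne hc
  · have h2 : Kb = Subgroup.zpowers c := by
      refine le_antisymm ?_ (Subgroup.zpowers_le.mpr hcK)
      rintro _ ⟨k, hk, rfl⟩
      obtain ⟨x, hx, hxk⟩ : (k : G) ∈ M := e.ge hk
      obtain rfl : x = k := Subtype.ext hxk
      exact hx
    have h3 : L.relIndex K = s := by
      rw [← hc, ← Nat.card_zpowers, ← h2, hKb, ← Subgroup.relIndex_bot_left,
        ← Subgroup.relIndex_comap, MonoidHom.comap_bot, hπ, QuotientGroup.ker_mk',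
        Subgroup.relIndex_subgroupOf hKH]
    rw [h3] at hsq
    exact hs.not_isSquare hsq

/-- A nilpotent supplement of a normal subgroup with nilpotent quotient. -/
theorem exists_nilpotent_supplement (F : Subgroup G) [F.Normal]
    (hnil : Group.IsNilpotent (G ⧸ F)) :
    ∃ C : Subgroup G, Group.IsNilpotent C ∧ F ⊔ C = ⊤ := by
  obtain ⟨C, hC, hmin⟩ := Set.Finite.exists_minimal (Set.toFinite {C : Subgroup G | F ⊔ C = ⊤})
    ⟨⊤, by simp⟩
  have hC' : F ⊔ C = ⊤ := hC
  refine ⟨C, ?_, hC'⟩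
  refine ((Group.isNilpotent_of_finite_tfae (G := C)).out 0 3 : Group.IsNilpotent C ↔
    ∀ (p : ℕ) (_hp : Fact p.Prime) (P : Sylow p C), (P : Subgroup C).Normal).mpr fun p hp P => ?_
  set f : C →* G ⧸ F := (QuotientGroup.mk' F).comp C.subtype with hf
  have hfs : Function.Surjective f := by
    intro y
    obtain ⟨g, rfl⟩ := QuotientGroup.mk'_surjective F y
    obtain ⟨a, ha, c, hc, rfl⟩ := Subgroup.mem_sup_of_normal_left.mp
      (hC' ▸ Subgroup.mem_top g : g ∈ F ⊔ C)
    refine ⟨⟨c, hc⟩, ?_⟩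
    show QuotientGroup.mk' F c = _
    rw [map_mul, show QuotientGroup.mk' F a = 1 from (QuotientGroup.eq_one_iff a).mpr ha, one_mul]
  haveI := hnil
  haveI hQn : ((P.mapSurjective hfs : Sylow p (G ⧸ F)) : Subgroup (G ⧸ F)).Normal :=
    ((Group.isNilpotent_of_finite_tfae (G := G ⧸ F)).out 0 3 : Group.IsNilpotent (G ⧸ F) ↔
      ∀ (p : ℕ) (_hp : Fact p.Prime) (P : Sylow p (G ⧸ F)), (P : Subgroup (G ⧸ F)).Normal).mp
      inferInstance p hp _
  set M := ((P : Subgroup C).map f).comap f with hM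
  haveI : ((P : Subgroup C).map f).Normal := by
    rw [← Sylow.coe_mapSurjective hfs P]; exact hQn
  have hfr : Subgroup.normalizer ((P : Subgroup C) : Set C) ⊔ M = ⊤ :=
    P.normalizer_sup_eq_top' (Subgroup.le_comap_map f _)
  rw [hM, Subgroup.comap_map_eq, ← sup_assoc,
    sup_eq_left.mpr Subgroup.le_normalizer] at hfr
  refine Subgroup.normalizer_eq_top_iff.mp (eq_top_iff.mpr fun x _ => ?_)
  set T := Subgroup.normalizer ((P : Subgroup C) : Set C) with hT
  have h1 : F ⊔ T.map C.subtype = ⊤ := by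
    rw [eq_top_iff, ← hC']
    refine sup_le le_sup_left ?_
    have h2 := congrArg (Subgroup.map C.subtype) hfr
    rw [Subgroup.map_sup, ← MonoidHom.range_eq_map, C.range_subtype] at h2
    conv_lhs => rw [← h2]
    refine sup_le le_sup_right (le_sup_of_le_left ?_)
    rintro _ ⟨y, hy, rfl⟩
    exact (QuotientGroup.eq_one_iff (y : G)).mp (MonoidHom.mem_ker.mp hy)
  obtain ⟨y, hy, e⟩ := hmin h1 (Subgroup.map_subtype_le T) x.2
  rwa [show x = y from Subtype.ext e.symm]

variable [Fintype G]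

/-- For a faithful primitive character the abelian normal subgroups are central. -/
theorem abelian_normal_le_center {χ : G → ℂ} (hχ : IsIrrCharacter G χ)
    (hprim : ¬ ∃ H : Subgroup G, H ≠ ⊤ ∧ ∃ θ : H → ℂ, IsCharacter H θ ∧ indFun H θ = χ)
    (hfaith : ∀ g, χ g = χ 1 → g = 1) (A : Subgroup G) [A.Normal]
    (hab : ∀ a ∈ A, ∀ b ∈ A, a * b = b * a) : A ≤ Subgroup.center G := by
  classical
  haveI : Fintype A := Fintype.ofFinite A
  obtain ⟨θ, hθ⟩ := exists_constituent A (isCharacter_of_isIrr hχ) (irr_degree_ne_zero hχ)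
  haveI : Fintype (inertia A (θ : A → ℂ)) := Fintype.ofFinite _
  have hT : inertia A (θ : A → ℂ) = ⊤ := by
    by_contra hne
    obtain ⟨ψ, hψ, hind, -⟩ := clifford_correspondence_surjective A (inertia A (θ : A → ℂ)) θ.2
      (fun g => mem_inertia A) (le_inertia A (isClassFunction_irr θ)) hχ hθ
    exact hprim ⟨_, hne, ψ, isCharacter_of_isIrr hψ, hind⟩
  have hinv : ∀ g, conjBy A (θ : A → ℂ) g = θ := fun g =>
    (mem_inertia A).mp (hT ▸ Subgroup.mem_top g)
  have hres := clifford_invariant A hχ θ.2 hinv hθ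
  have h1 : (θ : A → ℂ) 1 = 1 :=
    degree_one_of_comm (fun a b => Subtype.ext (hab _ a.2 _ b.2)) θ
  obtain ⟨n, ρ, hρ, hθρ⟩ := θ.2
  have hn : n = 1 := by
    have h := h1
    rw [← hθρ, Representation.char_one, Module.finrank_fin_fun] at h
    exact_mod_cast h
  subst hn
  -- `θ` is multiplicative
  have hmul : ∀ a b : A, (θ : A → ℂ) (a * b) = (θ : A → ℂ) a * (θ : A → ℂ) b := by
    intro a b
    have hs : ∀ f : Module.End ℂ (Fin 1 → ℂ),
        f = LinearMap.trace ℂ _ f • (1 : Module.End ℂ (Fin 1 → ℂ)) := by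
      intro f
      refine LinearMap.ext fun v => funext fun i => ?_
      have hi : i = 0 := Subsingleton.elim _ _
      subst hi
      rw [LinearMap.trace_eq_matrix_trace ℂ (Pi.basisFun ℂ (Fin 1)) f, Matrix.trace_fin_one,
        LinearMap.toMatrix_apply]
      have hv : v = v 0 • (Pi.basisFun ℂ (Fin 1)) 0 := funext fun i => by
        rw [Subsingleton.elim i 0]; simp
      conv_lhs => rw [hv, map_smul]
      simp [mul_comm]
    rw [← hθρ]
    show LinearMap.trace ℂ _ (ρ (a * b)) = LinearMap.trace ℂ _ (ρ a) * LinearMap.trace ℂ _ (ρ b)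
    rw [map_mul]
    conv_lhs => rw [hs (ρ a), smul_mul_assoc, one_mul, map_smul, smul_eq_mul]
  intro a ha
  refine Subgroup.mem_center_iff.mpr fun g => ?_
  have hc : g⁻¹ * a * g ∈ A := by simpa using Subgroup.Normal.conj_mem inferInstance a ha g⁻¹
  have hconj : (θ : A → ℂ) ⟨g⁻¹ * a * g, hc⟩ = (θ : A → ℂ) ⟨a, ha⟩ ∨
      (θ : A → ℂ) ⟨g * a * g⁻¹, Subgroup.Normal.conj_mem inferInstance a ha g⟩ =
        (θ : A → ℂ) ⟨a, ha⟩ := by
    have := congrFun (hinv g) ⟨a, ha⟩
    simp only [conjBy] at this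
    first
      | exact Or.inl this
      | exact Or.inr this
  have key : ∀ b : A, (θ : A → ℂ) b = (θ : A → ℂ) ⟨a, ha⟩ → (b : G) = a := by
    intro b hb
    refine eq_of_mul_inv_eq_one (hfaith _ ?_)
    have h := congrFun hres (b * (⟨a, ha⟩ : A)⁻¹)
    have h' := congrFun hres (1 : A)
    simp only [Pi.smul_apply, Subgroup.coe_mul, InvMemClass.coe_inv, Subgroup.coe_one] at h h'
    rw [h, h', hmul, hb, ← hmul, mul_inv_cancel]
  rcases hconj with h | h
  · have := key _ h
    calc g * a = g * (g⁻¹ * a * g) := by rw [show g⁻¹ * a * g = a from this]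
      _ = a * g := by group
  · have := key _ h
    calc g * a = (g * a * g⁻¹) * g := by group
      _ = a * g := by rw [show g * a * g⁻¹ = a from this]

/-- A primitive character restricts irreducibly to a normal subgroup with nilpotent quotient. -/
theorem restrict_irr {χ : G → ℂ} (hχ : IsIrrCharacter G χ)
    (hprim : ¬ ∃ H : Subgroup G, H ≠ ⊤ ∧ ∃ θ : H → ℂ, IsCharacter H θ ∧ indFun H θ = χ)
    (N : Subgroup G) [N.Normal] (hnil : Group.IsNilpotent (G ⧸ N)) :
    IsIrrCharacter N (fun x : N => χ x) := by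
  haveI := hnil
  obtain ⟨H, hNH, ψ, hψ, hind, hψN⟩ := RelativeMGroup.aux _ G N rfl inferInstance
    (nonSquareChief N hnil) χ hχ
  by_cases hH : H = ⊤
  · subst hH
    have : (fun x : N => χ x) = fun x : N => ψ ⟨(x : G), hNH x.2⟩ := funext fun x => by
      rw [← hind, RelativeMGroup.indFun_top_apply hψ]
    rw [this]; exact hψN
  · exact absurd ⟨H, hH, ψ, isCharacter_of_isIrr hψ, hind⟩ hprim

theorem eq_of_prime_dvd_orderOf {r : ℕ} (hr : r.Prime) {x : G} (hx : ∃ j, x ^ r ^ j = 1)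
    (h : ¬ r ∣ Nat.card G) : x = 1 := by
  obtain ⟨j, hj⟩ := hx
  rw [← orderOf_eq_one_iff]
  exact Nat.eq_one_of_dvd_coprimes
    (((hr.coprime_iff_not_dvd.mpr h)).pow_left j) (orderOf_dvd_of_pow_eq_one hj)
    (orderOf_dvd_natCard x)

theorem commute_parts {H : Subgroup G} (hH : Group.IsNilpotent H) {r s : ℕ} (hr : r.Prime)
    (hs : s.Prime) (hrs : r ≠ s) {a b : G} (ha : a ∈ H) (hb : b ∈ H) (hai : ∃ i, a ^ r ^ i = 1)
    (hbj : ∃ j, b ^ s ^ j = 1) : Commute a b := by
  haveI := hH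
  haveI := Fact.mk hr
  obtain ⟨i, hi⟩ := hai
  obtain ⟨j, hj⟩ := hbj
  have := CfsgLib.Hall.commute_of_coprime_orderOf (G := H) (x := ⟨a, ha⟩) (y := ⟨b, hb⟩) (j := i)
    (orderOf_dvd_of_pow_eq_one (Subtype.ext (by simpa using hi)))
    ((((Nat.coprime_primes hs hr).mpr hrs.symm).pow_left j).coprime_dvd_left
      (orderOf_dvd_of_pow_eq_one (Subtype.ext (by simpa using hj))))
  exact congrArg Subtype.val this

/-- For each of the two primes some element of the supplement has a large enough class. -/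
theorem prime_step {χ : G → ℂ} (hχ : IsIrrCharacter G χ)
    (hab : ∀ A : Subgroup G, A.Normal → (∀ a ∈ A, ∀ b ∈ A, a * b = b * a) →
      A ≤ Subgroup.center G)
    (F : Subgroup G) [F.Normal] (hF : Group.IsNilpotent F)
    (hFirr : IsIrrCharacter F (fun x : F => χ x)) (C : Subgroup G) (hC : Group.IsNilpotent C)
    (hFC : F ⊔ C = ⊤) {p q : ℕ} [Fact p.Prime] [Fact q.Prime] (hpq : p ≠ q)
    (hG : ∀ r : ℕ, r.Prime → r ∣ Nat.card G → r = p ∨ r = q) {d : ℕ} (hd : χ 1 = d) :
    ∃ x ∈ C, (∃ j, x ^ q ^ j = 1) ∧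
      p ^ d.factorization p ∣ (Subgroup.centralizer ({x} : Set G)).index := by
  classical
  have hp : p.Prime := Fact.out
  have hq : q.Prime := Fact.out
  obtain ⟨R, hRp, hR⟩ := FixBound.exists_rPart hF p
  obtain ⟨W, hWq, hW⟩ := FixBound.exists_rPart hC q
  obtain ⟨P, hPp, hP⟩ := FixBound.exists_rPart hC p
  haveI hRn : R.Normal := ⟨fun x hx g => by
    obtain ⟨hxF, j, hj⟩ := (hR x).mp hx
    exact (hR _).mpr ⟨Subgroup.Normal.conj_mem inferInstance x hxF g, j, by
      rw [conj_pow, hj, mul_one, mul_inv_cancel]⟩⟩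
  set Z := Subgroup.center G with hZ
  set π := QuotientGroup.mk' Z with hπ
  have hπs : Function.Surjective π := QuotientGroup.mk'_surjective Z
  set V := R.map π with hV
  haveI hVn : V.Normal := Subgroup.Normal.map hRn π hπs
  have hmemZ : ∀ a : G, π a = 1 ↔ a ∈ Z := fun a => QuotientGroup.eq_one_iff a
  -- the derived subgroup of `R` is central
  have hR' : ⁅R, R⁆ ≤ Z := by
    by_contra hne
    haveI : (Subgroup.centralizer (V : Set (G ⧸ Z))).Normal := inferInstance
    set S := R ⊓ (Subgroup.centralizer (V : Set (G ⧸ Z))).comap π with hS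
    have hRS : ⁅R, S⁆ ≤ Z := Subgroup.commutator_le.mpr fun r hr s hs => by
      rw [← hmemZ, map_commutatorElement, commutatorElement_eq_one_iff_commute]
      exact Subgroup.mem_centralizer_iff.mp hs.2 _ ⟨r, hr, rfl⟩
    have hZR : ⁅Z, R⁆ = ⊥ := by
      rw [Subgroup.commutator_eq_bot_iff_le_centralizer]
      exact fun z hz => Subgroup.mem_centralizer_iff.mpr fun r _ => Subgroup.mem_center_iff.mp hz r
    have h3 : ⁅⁅R, R⁆, S⁆ = ⊥ := by
      refine Subgroup.commutator_commutator_eq_bot_of_rotate ?_ ?_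
      · exact eq_bot_iff.mpr ((Subgroup.commutator_mono hRS le_rfl).trans_eq hZR)
      · rw [Subgroup.commutator_comm S R]
        exact eq_bot_iff.mpr ((Subgroup.commutator_mono hRS le_rfl).trans_eq hZR)
    have hA : ⁅R, R⁆ ⊓ S ≤ Z := hab _ inferInstance fun a ha b hb => by
      have := Subgroup.commutator_mem_commutator ha.1 hb.2
      rw [h3, Subgroup.mem_bot, commutatorElement_eq_one_iff_commute] at this
      exact this
    set D := (⁅R, R⁆.map π).subgroupOf V with hD
    haveI : (⁅R, R⁆.map π).Normal := Subgroup.Normal.map inferInstance π hπs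
    haveI : Group.IsNilpotent V := (hRp.map π).isNilpotent
    have hDV : ⁅R, R⁆.map π ≤ V := Subgroup.map_mono (Subgroup.commutator_le_self R)
    have hDne : D ≠ ⊥ := by
      rw [hD, Ne, Subgroup.subgroupOf_eq_bot, disjoint_iff, inf_eq_left.mpr hDV,
        Subgroup.map_eq_bot_iff, hπ, QuotientGroup.ker_mk']
      exact hne
    refine Critical.inf_center_ne_bot D hDne ((Subgroup.eq_bot_iff_forall _).mpr ?_)
    rintro ⟨u, hu⟩ ⟨⟨a, ha, e⟩, huc⟩
    refine Subtype.ext ?_
    have haS : a ∈ S := by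
      refine ⟨Subgroup.commutator_le_self R ha, Subgroup.mem_centralizer_iff.mpr fun v hv => ?_⟩
      have := congrArg Subtype.val (Subgroup.mem_center_iff.mp huc ⟨v, hv⟩)
      show v * π a = π a * v
      rw [show π a = u from e]
      exact this
    show u = 1
    rw [← show π a = u from e]
    exact (hmemZ a).mpr (hA ⟨ha, haS⟩)
  have hVc : ∀ a ∈ V, ∀ b ∈ V, a * b = b * a := by
    rintro _ ⟨a, ha, rfl⟩ _ ⟨b, hb, rfl⟩
    refine commutatorElement_eq_one_iff_commute.mp ?_
    rw [← map_commutatorElement, hmemZ]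
    exact hR' (Subgroup.commutator_mem_commutator ha hb)
  have hFV : F ≤ (Subgroup.centralizer (V : Set (G ⧸ Z))).comap π := by
    refine FixBound.le_of_primePow_mem _ _ fun r hr f hf hfr =>
      Subgroup.mem_centralizer_iff.mpr ?_
    rintro _ ⟨a, ha, rfl⟩
    by_cases hrp : r = p
    · subst hrp
      exact hVc _ ⟨a, ha, rfl⟩ _ ⟨f, (hR f).mpr ⟨hf, hfr⟩, rfl⟩
    · obtain ⟨haF, haj⟩ := (hR a).mp ha
      rw [← map_mul, ← map_mul, (commute_parts hF hr hp hrp hf haF hfr haj).eq]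
  -- `W` fixes no non-trivial point
  set T := V ⊓ Subgroup.centralizer ((W.map π : Subgroup (G ⧸ Z)) : Set (G ⧸ Z)) with hT
  have hTbot : T = ⊥ := by
    by_contra hne
    have hWC : ∀ c ∈ C, ∀ w ∈ W, c * w * c⁻¹ ∈ W := by
      intro c hc w hw
      obtain ⟨hwC, j, hj⟩ := (hW w).mp hw
      exact (hW _).mpr ⟨C.mul_mem (C.mul_mem hc hwC) (C.inv_mem hc), j, by
        rw [conj_pow, hj, mul_one, mul_inv_cancel]⟩
    have hstep : ∀ g, g ∈ F ∨ g ∈ C → ∀ t ∈ T, π g * t * (π g)⁻¹ ∈ T := by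
      rintro g (hg | hg) t ht
      · have h1 := Subgroup.mem_centralizer_iff.mp (hFV hg) t ht.1
        rw [← h1, mul_inv_cancel_right]; exact ht
      · refine ⟨hVn.conj_mem t ht.1 _, Subgroup.mem_centralizer_iff.mpr ?_⟩
        rintro _ ⟨w, hw, rfl⟩
        have h0 := Subgroup.mem_centralizer_iff.mp ht.2 _
          ⟨g⁻¹ * w * g, by simpa using hWC g⁻¹ (C.inv_mem hg) w hw, rfl⟩
        rw [map_mul, map_mul, map_inv] at h0
        calc π w * (π g * t * (π g)⁻¹) = π g * ((π g)⁻¹ * π w * π g * t) * (π g)⁻¹ := by group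
          _ = π g * (t * ((π g)⁻¹ * π w * π g)) * (π g)⁻¹ := by rw [h0]
          _ = π g * t * (π g)⁻¹ * π w := by group
    haveI hTn : T.Normal := by
      rw [← Subgroup.normalizer_eq_top_iff, eq_top_iff, ← Subgroup.map_top_of_surjective π hπs,
        ← hFC, Subgroup.map_le_iff_le_comap]
      have hsub : ∀ g, g ∈ F ∨ g ∈ C → π g ∈ Subgroup.normalizer (T : Set (G ⧸ Z)) := by
        intro g hg
        refine Subgroup.mem_normalizer_iff.mpr fun t => ⟨hstep g hg t, fun h => ?_⟩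
        have := hstep g⁻¹ (hg.imp F.inv_mem C.inv_mem) _ h
        rw [map_inv, inv_inv] at this
        simpa [mul_assoc] using this
      exact sup_le (fun g hg => hsub g (Or.inl hg)) (fun g hg => hsub g (Or.inr hg))
    have hTp : IsPGroup p T := (hRp.map π).to_le inf_le_left
    set Q := T ⊔ P.map π with hQ
    have hQp : IsPGroup p Q := hTp.to_sup_of_normal_left (hPp.map π)
    haveI : (T.subgroupOf Q).Normal := Subgroup.normal_subgroupOf
    obtain ⟨⟨u, huQ⟩, huT, huc, huord⟩ := CfsgLib.Char.exists_central_of_normal hQp (T.subgroupOf Q)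
      (fun h => hne (by
        have := Subgroup.subgroupOf_eq_bot.mp h
        rwa [disjoint_iff, inf_eq_left.mpr (le_sup_left : T ≤ Q)] at this))
    rw [Subgroup.orderOf_mk] at huord
    replace huT : u ∈ T := huT
    set K := (Subgroup.centralizer ({u} : Set (G ⧸ Z))).comap π with hK
    have hmemK : ∀ g, g ∈ K ↔ Commute (π g) u := fun g => by
      rw [hK, Subgroup.mem_comap, Subgroup.mem_centralizer_singleton_iff]; rfl
    have hFK : F ≤ K := fun f hf =>
      (hmemK f).mpr (Subgroup.mem_centralizer_iff.mp (hFV hf) u huT.1).symm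
    have hCK : C ≤ K := by
      refine FixBound.le_of_primePow_mem _ _ fun r hr c hc hcr => ?_
      by_cases hrd : r ∣ Nat.card G
      · rcases hG r hr hrd with rfl | rfl
        · refine (hmemK c).mpr ?_
          have := congrArg Subtype.val (Subgroup.mem_center_iff.mp huc
            ⟨π c, le_sup_right (a := T) ⟨c, (hP c).mpr ⟨hc, hcr⟩, rfl⟩⟩)
          exact this
        · exact (hmemK c).mpr
            (Subgroup.mem_centralizer_iff.mp huT.2 _ ⟨c, (hW c).mpr ⟨hc, hcr⟩, rfl⟩)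
      · rw [eq_of_prime_dvd_orderOf hr hcr hrd]; exact K.one_mem
    have hucent : u ∈ Subgroup.center (G ⧸ Z) := by
      refine Subgroup.mem_center_iff.mpr fun y => ?_
      obtain ⟨g, rfl⟩ := hπs y
      exact ((hmemK g).mp (sup_le hFK hCK (hFC ▸ Subgroup.mem_top g))).eq
    obtain ⟨a, ha, hau⟩ := huT.1
    set B := (Subgroup.zpowers u).comap π with hB
    haveI : (Subgroup.zpowers u).Normal := ⟨fun x hx g => by
      rw [Subgroup.mem_center_iff.mp ((Subgroup.zpowers_le.mpr hucent) hx) g, mul_inv_cancel_right]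
      exact hx⟩
    have hshape : ∀ x ∈ B, ∃ i : ℤ, ∃ z ∈ Z, x = a ^ i * z := by
      intro x hx
      obtain ⟨i, hi⟩ := Subgroup.mem_zpowers_iff.mp hx
      refine ⟨i, (a ^ i)⁻¹ * x, ?_, (mul_inv_cancel_left _ _).symm⟩
      rw [← hmemZ, map_mul, map_inv, map_zpow, hau, hi, inv_mul_cancel]
    have haZ : a ∈ Z := hab B inferInstance (fun x hx y hy => by
      obtain ⟨i, z, hz, rfl⟩ := hshape x hx
      obtain ⟨j, w, hw, rfl⟩ := hshape y hy
      have hcz : ∀ g, Commute g z := fun g => Subgroup.mem_center_iff.mp hz g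
      have hcw : ∀ g, Commute g w := fun g => Subgroup.mem_center_iff.mp hw g
      exact (((Commute.zpow_zpow_self a i j).mul_right (hcw _)).mul_left
        ((hcz _).symm.mul_right (hcw _))).eq)
      (Subgroup.mem_comap.mpr (hau.symm ▸ Subgroup.mem_zpowers u))
    rw [(hmemZ a).mpr haZ] at hau
    rw [← hau, orderOf_one] at huord
    exact hp.one_lt.ne huord
  -- the small centraliser
  letI : CommGroup V := { (inferInstance : Group V) with
    mul_comm := fun a b => Subtype.ext (hVc _ a.2 _ b.2) }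
  let ω : W →* MulAut V := (MulAut.conjNormal (H := V)).comp (π.comp W.subtype)
  have hωval : ∀ (x : W) (v : V), ((ω x v : V) : G ⧸ Z) = π x * v * (π x)⁻¹ := fun x v => rfl
  have hfixed : ∀ (x : W) (v : V), ω x v = v ↔ π x * v = v * π x := by
    intro x v
    rw [Subtype.ext_iff, hωval, mul_inv_eq_iff_eq_mul]
  obtain ⟨⟨x, hxW⟩, hx⟩ := exists_small_fixed ω hWq.isNilpotent
    (IsPGroup.coprime_card_of_ne q p hpq.symm W V hWq (hRp.map π))
    (fun v hv => by
      refine Subtype.ext ((Subgroup.eq_bot_iff_forall _).mp hTbot (v : G ⧸ Z) ⟨v.2, ?_⟩)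
      refine Subgroup.mem_centralizer_iff.mpr ?_
      rintro _ ⟨w, hw, rfl⟩
      exact (hfixed ⟨w, hw⟩ v).mp (hv ⟨w, hw⟩))
  obtain ⟨hxC, hxq⟩ := (hW x).mp hxW
  refine ⟨x, hxC, hxq, ?_⟩
  set Cx := Subgroup.centralizer ({x} : Set G) with hCx
  refine dvd_trans ?_ (Fitting.relIndex_dvd_index_of_normal_right Cx R)
  -- the counting
  set o := Cx.relIndex R with ho
  have h1 : Nat.card (Cx.subgroupOf R) * o = Nat.card R := (Cx.subgroupOf R).card_mul_index
  have h2 : Nat.card (Z.subgroupOf R) * Nat.card V = Nat.card R := by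
    rw [← (Z.subgroupOf R).card_mul_index]
    congr 1
    rw [show V = (π.comp R.subtype).range by rw [MonoidHom.range_comp, R.range_subtype],
      ← Subgroup.index_ker, ← MonoidHom.comap_ker, hπ, QuotientGroup.ker_mk']
    rfl
  have h3 : Nat.card (Cx.subgroupOf R) ≤
      Nat.card (Z.subgroupOf R) * Nat.card {v : V // ω ⟨x, hxW⟩ v = v} := by
    set f := (π.comp R.subtype).comp (Cx.subgroupOf R).subtype with hf
    rw [← f.ker.card_mul_index, Subgroup.index_ker]
    refine Nat.mul_le_mul (Nat.card_le_card_of_injective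
      (fun a : f.ker => (⟨((a : Cx.subgroupOf R) : R),
        (hmemZ _).mp (MonoidHom.mem_ker.mp a.2)⟩ : Z.subgroupOf R)) ?_) ?_
    · intro a b h
      exact Subtype.ext (Subtype.ext (congrArg (fun t : Z.subgroupOf R => (t : R)) h))
    · have hmem : ∀ y : f.range, ∃ hy : (y : G ⧸ Z) ∈ V, ω ⟨x, hxW⟩ ⟨y, hy⟩ = ⟨y, hy⟩ := by
        rintro ⟨_, a, rfl⟩
        refine ⟨⟨_, (a : R).2, rfl⟩, (hfixed _ _).mpr ?_⟩
        show π x * π ((a : R) : G) = π ((a : R) : G) * π x
        have ha : ((a : R) : G) ∈ Subgroup.centralizer ({x} : Set G) := a.2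
        rw [← map_mul, ← map_mul, (Subgroup.mem_centralizer_singleton_iff.mp ha)]
      choose hy hy' using hmem
      refine Nat.card_le_card_of_injective
        (fun y => (⟨⟨y, hy y⟩, hy' y⟩ : {v : V // ω ⟨x, hxW⟩ v = v})) ?_
      intro y y' h
      exact Subtype.ext (congrArg (fun t : {v : V // ω ⟨x, hxW⟩ v = v} => ((t : V) : G ⧸ Z)) h)
  set c := Nat.card {v : V // ω ⟨x, hxW⟩ v = v} with hc
  have h4 : Nat.card V ≤ c * o := by
    refine Nat.le_of_mul_le_mul_left ?_ (Nat.card_pos (α := Z.subgroupOf R))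
    rw [h2, ← h1, ← mul_assoc]
    exact Nat.mul_le_mul_right _ h3
  have h5 : Nat.card V ≤ o * o := by
    refine Nat.le_of_mul_le_mul_right ?_ (Nat.card_pos (α := V))
    calc Nat.card V * Nat.card V ≤ (c * o) * (c * o) := Nat.mul_le_mul h4 h4
      _ = (o * o) * c ^ 2 := by ring
      _ ≤ (o * o) * Nat.card V := Nat.mul_le_mul_left _ hx
  -- the degree
  set R' := R.subgroupOf F with hR'def
  haveI : R'.Normal := Subgroup.normal_subgroupOf
  haveI : Fintype F := Fintype.ofFinite F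
  haveI : Fintype R' := Fintype.ofFinite R'
  have h0 : (fun x : F => χ x) 1 ≠ 0 := by
    show χ ((1 : F) : G) ≠ 0
    rw [Subgroup.coe_one]; exact irr_degree_ne_zero hχ
  obtain ⟨ψ, hψ⟩ := exists_constituent R' (isCharacter_of_isIrr hFirr) h0
  obtain ⟨k, hk, hkdvd⟩ := degree_ratio R' ψ.2 hFirr hψ
  obtain ⟨m, hm, -, hmdvd⟩ := exists_degree_dvd_card ψ.2
  have hRF : R ≤ F := fun r hr => ((hR r).mp hr).1
  obtain ⟨e, he⟩ := IsPGroup.iff_card.mp hRp
  obtain ⟨i, -, hi⟩ := (Nat.dvd_prime_pow hp).mp (show m ∣ p ^ e by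
    rw [← he, ← Nat.card_congr (Subgroup.subgroupOfEquivOfLe hRF).toEquiv]; exact hmdvd)
  have hkp : ¬ p ∣ k := by
    obtain ⟨Q⟩ : Nonempty (Sylow p F) := inferInstance
    refine fun h => Q.not_dvd_index ((h.trans hkdvd).trans (Subgroup.index_dvd_of_le fun y hy => ?_))
    obtain ⟨j, hj⟩ := Q.2 ⟨y, hy⟩
    exact (hR y).mpr
      ⟨y.2, j, by simpa using congrArg (fun z : (Q : Subgroup F) => ((z : F) : G)) hj⟩
  have hdkm : d = k * m := by
    have : (d : ℂ) = (k : ℂ) * m := by
      rw [← hd, ← hm]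
      exact hk
    exact_mod_cast this
  have hfac : d.factorization p = i := by
    have hk0 : k ≠ 0 := fun h => hkp (h ▸ dvd_zero p)
    rw [hdkm, hi, Nat.factorization_mul hk0 (pow_ne_zero _ hp.ne_zero), Finsupp.add_apply,
      Nat.factorization_eq_zero_of_not_dvd hkp, zero_add, hp.factorization_pow,
      Finsupp.single_eq_same]
  have h6 : m * m ≤ Nat.card V := by
    set g := (π.comp F.subtype).comp R'.subtype with hg
    have hgr : g.range = V := by
      ext y
      constructor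
      · rintro ⟨a, rfl⟩; exact ⟨((a : F) : G), a.2, rfl⟩
      · rintro ⟨r, hr, rfl⟩; exact ⟨⟨⟨r, hRF hr⟩, hr⟩, rfl⟩
    have := Codegree.sq_degree_le_index ψ.2 g.ker (fun a ha => Subgroup.mem_center_iff.mpr fun b =>
      Subtype.ext (Subtype.ext (Subgroup.mem_center_iff.mp
        ((hmemZ ((a : F) : G)).mp (MonoidHom.mem_ker.mp ha)) ((b : F) : G)))) hm
    rwa [Subgroup.index_ker, hgr] at this
  have hmo : m ≤ o := Nat.mul_self_le_mul_self_iff.mp (h6.trans h5)
  obtain ⟨b, -, hb⟩ := (Nat.dvd_prime_pow hp).mp (show o ∣ p ^ e by rw [← he, ← h1]; exact dvd_mul_left _ _)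
  rw [hfac, hb]
  refine pow_dvd_pow p ?_
  rw [hi, hb] at hmo
  exact (Nat.pow_le_pow_iff_right hp.one_lt).mp hmo

/-- The faithful case. -/
theorem exists_class_dvd_faithful {χ : G → ℂ} (hχ : IsIrrCharacter G χ)
    (hprim : ¬ ∃ H : Subgroup G, H ≠ ⊤ ∧ ∃ θ : H → ℂ, IsCharacter H θ ∧ indFun H θ = χ)
    (hfaith : ∀ g, χ g = χ 1 → g = 1) (F : Subgroup G) [F.Normal] (hF : Group.IsNilpotent F)
    (hnil : Group.IsNilpotent (G ⧸ F)) {p q : ℕ} (hp : p.Prime) (hq : q.Prime) (hpq : p ≠ q)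
    (hG : ∀ r : ℕ, r.Prime → r ∣ Nat.card G → r = p ∨ r = q) {d : ℕ} (hd : χ 1 = d) :
    ∃ g : G, d ∣ (Subgroup.centralizer ({g} : Set G)).index := by
  haveI := Fact.mk hp
  haveI := Fact.mk hq
  obtain ⟨C, hC, hFC⟩ := exists_nilpotent_supplement F hnil
  have hab := fun (A : Subgroup G) (hA : A.Normal) h => abelian_normal_le_center hχ hprim hfaith A h
  have hFirr := restrict_irr hχ hprim F hnil
  obtain ⟨x, hxC, hxq, hx⟩ := prime_step hχ hab F hF hFirr C hC hFC hpq hG hd
  obtain ⟨y, hyC, hyp, hy⟩ := prime_step hχ hab F hF hFirr C hC hFC hpq.symm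
    (fun r hr h => (hG r hr h).symm) hd
  refine ⟨x * y, ?_⟩
  have hxy : Commute x y := commute_parts hC hq hp hpq.symm hxC hyC hxq hyp
  obtain ⟨i, hi⟩ := hxq
  obtain ⟨j, hj⟩ := hyp
  have hpow : ∀ {a b : G} {r s k l : ℕ}, r.Prime → s.Prime → r ≠ s → Commute a b →
      a ^ r ^ k = 1 → b ^ s ^ l = 1 →
      Subgroup.centralizer ({a * b} : Set G) ≤ Subgroup.centralizer {a} := by
    intro a b r s k l hr hs hrs hc ha hb g hg
    have hcop : (s ^ l).Coprime (orderOf a) :=
      (((Nat.coprime_primes hs hr).mpr hrs.symm).pow l k).coprime_dvd_right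
        (orderOf_dvd_of_pow_eq_one ha)
    obtain ⟨t, ht⟩ := exists_pow_eq_self_of_coprime hcop
    have hg' : Commute g (a * b) := Subgroup.mem_centralizer_singleton_iff.mp hg
    have := (hg'.pow_right (s ^ l)).pow_right t
    rw [hc.mul_pow, hb, mul_one, ht] at this
    exact Subgroup.mem_centralizer_singleton_iff.mpr this
  have hxd := hx.trans (Subgroup.index_dvd_of_le (hpow hq hp hpq.symm hxy hi hj))
  have hyd := hy.trans (Subgroup.index_dvd_of_le
    (hxy.eq ▸ hpow hp hq hpq hxy.symm hj hi :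
      Subgroup.centralizer ({x * y} : Set G) ≤ Subgroup.centralizer {y}))
  obtain ⟨n, hn, -, hndvd⟩ := exists_degree_dvd_card hχ
  have hnd : n = d := Nat.cast_injective (R := ℂ) (hn.symm.trans hd)
  subst hnd
  rw [Nat.dvd_iff_prime_pow_dvd_dvd]
  intro r k hr hrk
  rcases Nat.eq_zero_or_pos k with rfl | hk
  · simp
  have hrG : r ∣ Nat.card G := ((dvd_pow_self r hk.ne').trans hrk).trans hndvd
  have hle : r ^ k ∣ r ^ n.factorization r := pow_dvd_pow r ((hr.pow_dvd_iff_le_factorization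
    (ne_zero_of_dvd_ne_zero Nat.card_pos.ne' hndvd)).mp hrk)
  rcases hG r hr hrG with rfl | rfl
  · exact hle.trans hxd
  · exact hle.trans hyd

/-- A primitive character of a metanilpotent `{p, q}`-group divides a class size. -/
theorem exists_class_dvd {χ : G → ℂ} (hχ : IsIrrCharacter G χ)
    (hprim : ¬ ∃ H : Subgroup G, H ≠ ⊤ ∧ ∃ θ : H → ℂ, IsCharacter H θ ∧ indFun H θ = χ)
    (F : Subgroup G) [F.Normal] (hF : Group.IsNilpotent F) (hnil : Group.IsNilpotent (G ⧸ F))
    {p q : ℕ} (hp : p.Prime) (hq : q.Prime) (hpq : p ≠ q)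
    (hG : ∀ r : ℕ, r.Prime → r ∣ Nat.card G → r = p ∨ r = q) :
    ∃ g : G, charDegree χ ∣ (Subgroup.centralizer ({g} : Set G)).index := by
  classical
  obtain ⟨K, hKn, hK, -⟩ := exists_kernel (isCharacter_of_isIrr hχ)
  haveI := hKn
  set π := QuotientGroup.mk' K with hπ
  have hπs : Function.Surjective π := QuotientGroup.mk'_surjective K
  haveI : Fintype (G ⧸ K) := Fintype.ofFinite _
  obtain ⟨η, hη⟩ := Blocks.exists_inflate_eq_of_ker K ⟨χ, hχ⟩ fun u hu => (hK u).mp hu
  have hval : ∀ g, χ g = (η : G ⧸ K → ℂ) (π g) := fun g =>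
    congrFun (congrArg Subtype.val hη) g
  have hprim' : ¬ ∃ H : Subgroup (G ⧸ K), H ≠ ⊤ ∧
      ∃ θ : H → ℂ, IsCharacter H θ ∧ indFun H θ = (η : G ⧸ K → ℂ) := by
    rintro ⟨H, hH, θ, hθ, e⟩
    refine hprim ⟨H.comap π, fun h => hH (eq_top_iff.mpr fun y _ => ?_),
      fun x => θ ⟨π x, x.2⟩, isCharacter_comp (π.subgroupComap H) hθ, ?_⟩
    · obtain ⟨g, rfl⟩ := hπs y
      exact (show g ∈ H.comap π from h ▸ Subgroup.mem_top g)
    · rw [AGroupMonomial.indFun_comap π hπs H θ, e]
      exact (funext hval).symm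
  haveI := hF
  haveI := hnil
  haveI : (F.map π).Normal := Subgroup.Normal.map inferInstance π hπs
  have hF' : Group.IsNilpotent (F.map π) :=
    Group.nilpotent_of_surjective (π.subgroupMap F) (MonoidHom.subgroupMap_surjective π F)
  have hnil' : Group.IsNilpotent ((G ⧸ K) ⧸ F.map π) :=
    Group.nilpotent_of_surjective (QuotientGroup.map F (F.map π) π (Subgroup.le_comap_map π F))
      fun y => by
        obtain ⟨z, rfl⟩ := QuotientGroup.mk'_surjective (F.map π) y
        obtain ⟨g, rfl⟩ := hπs z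
        exact ⟨(g : G ⧸ F), rfl⟩
  obtain ⟨n, hn, -, -⟩ := exists_degree_dvd_card hχ
  obtain ⟨gb, hg⟩ := exists_class_dvd_faithful η.2 hprim'
    (fun y hy => by
      obtain ⟨g, rfl⟩ := hπs y
      exact (QuotientGroup.eq_one_iff g).mpr ((hK g).mpr (by
        rw [hval, hval 1, map_one]; exact hy)))
    (F.map π) hF' hnil' hp hq hpq
    (fun r hr h => hG r hr (h.trans (Subgroup.card_quotient_dvd_card K)))
    (d := n) (by rw [← map_one π, ← hval, hn])
  obtain ⟨g, rfl⟩ := hπs gb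
  refine ⟨g, ?_⟩
  rw [show charDegree χ = n by simp [charDegree, hn]]
  refine hg.trans ((Subgroup.index_dvd_of_le ?_).trans
    (Subgroup.index_map_dvd (Subgroup.centralizer ({g} : Set G)) hπs))
  rintro _ ⟨x, hx, rfl⟩
  replace hx : x ∈ Subgroup.centralizer ({g} : Set G) := hx
  rw [Subgroup.mem_centralizer_singleton_iff] at hx ⊢
  rw [← map_mul, ← map_mul, hx]

end CfsgLib.PrimitiveClassSize
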