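import Cfsg.Agent.Lib.PrimitiveClassSize.Average
import Mathlib.GroupTheory.Index
import Mathlib.GroupTheory.QuotientGroup.Basic
import Mathlib.GroupTheory.Solvable

/-!
# The average fixed point space of a coset of an abelian normal subgroup

A finite abelian group `A` of prime exponent acts without fixed points on a finite abelian group `V`
of coprime order.  `V` is decomposed by the centralisers of the subgroups of prime index of `A`, and
an automorphism `T` permuting `A` permutes them: a moved component meets the fixed points of `T a`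
in at most a diagonal, a kept one has `C(T a)` and `C(T a m)` meeting trivially.  So on the whole
coset the product of the squares of the numbers of fixed points is at most `#V ^ #A`.
-/

set_option autoImplicit false
set_option linter.unusedSectionVars false

namespace CfsgLib.PrimitiveClassSize

variable {A V : Type*} [CommGroup A] [Finite A] [CommGroup V] [Finite V] (φ : A →* MulAut V)

/-- The norm over a subgroup. -/
noncomputable def nrm (K : Subgroup A) : V →* V where
  toFun u := ∏ k ∈ (Set.toFinite (K : Set A)).toFinset, φ k u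
  map_one' := by simp
  map_mul' u v := by simp [Finset.prod_mul_distrib]

theorem nrm_apply (K : Subgroup A) (u : V) :
    nrm φ K u = ∏ k ∈ (Set.toFinite (K : Set A)).toFinset, φ k u := rfl

/-- The points fixed by a subgroup. -/
def cK (K : Subgroup A) : Subgroup V where
  carrier := {v | ∀ k ∈ K, φ k v = v}
  one_mem' := fun k _ => map_one _
  mul_mem' := fun {a b} ha hb k hk => by rw [map_mul, ha k hk, hb k hk]
  inv_mem' := fun {a} ha k hk => by rw [map_inv, ha k hk]

theorem mem_cK {K : Subgroup A} {v : V} : v ∈ cK φ K ↔ ∀ k ∈ K, φ k v = v := Iff.rfl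

theorem nrm_mem_cK (K : Subgroup A) (u : V) : nrm φ K u ∈ cK φ K := by
  intro k hk
  rw [nrm_apply, map_prod]
  refine Finset.prod_bij (fun a _ => k * a) (fun a ha => ?_) (fun a _ b _ h => mul_left_cancel h)
    (fun b hb => ⟨k⁻¹ * b, ?_, mul_inv_cancel_left k b⟩) fun a _ => (act_mul φ k a u).symm
  · simp only [Set.Finite.mem_toFinset, SetLike.mem_coe] at ha ⊢
    exact K.mul_mem hk ha
  · simp only [Set.Finite.mem_toFinset, SetLike.mem_coe] at hb ⊢
    exact K.mul_mem (K.inv_mem hk) hb

theorem nrm_of_fixed (K : Subgroup A) (u : V) (h : u ∈ cK φ K) :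
    nrm φ K u = u ^ Nat.card K := by
  rw [nrm_apply, Finset.prod_congr rfl fun k hk => h k (by simpa using hk), Finset.prod_const]
  congr 1
  exact (Nat.card_eq_card_finite_toFinset (Set.toFinite (K : Set A))).symm

theorem nrm_translate (K : Subgroup A) {k : A} (hk : k ∈ K) (u : V) :
    nrm φ K (φ k u) = nrm φ K u := by
  rw [nrm_apply, nrm_apply]
  refine Finset.prod_bij (fun a _ => a * k) (fun a ha => ?_) (fun a _ b _ h => mul_right_cancel h)
    (fun b hb => ⟨b * k⁻¹, ?_, inv_mul_cancel_right b k⟩) fun a _ => (act_mul φ a k u).symm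
  · simp only [Set.Finite.mem_toFinset, SetLike.mem_coe] at ha ⊢
    exact K.mul_mem ha hk
  · simp only [Set.Finite.mem_toFinset, SetLike.mem_coe] at hb ⊢
    exact K.mul_mem hb (K.inv_mem hk)

variable (σ : A ≃* A) (T : MulAut V)

theorem nrm_twist (hT : ∀ a v, T (φ a v) = φ (σ a) (T v)) (K : Subgroup A) (u : V) :
    T (nrm φ K u) = nrm φ (K.map σ.toMonoidHom) (T u) := by
  rw [nrm_apply, nrm_apply, map_prod]
  refine Finset.prod_bij (fun a _ => σ a) (fun a ha => ?_) (fun a _ b _ h => σ.injective h)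
    (fun b hb => ?_) fun a _ => hT a u
  · simp only [Set.Finite.mem_toFinset, SetLike.mem_coe] at ha ⊢
    exact ⟨a, ha, rfl⟩
  · simp only [Set.Finite.mem_toFinset, SetLike.mem_coe] at hb
    obtain ⟨a, ha, rfl⟩ := hb
    exact ⟨a, by simpa using ha, rfl⟩

variable {r : ℕ} [hr : Fact r.Prime]

theorem sup_eq_top_of_index {K L : Subgroup A} (hK : K.index = r) (hL : ¬ L ≤ K) : K ⊔ L = ⊤ := by
  rcases (Nat.dvd_prime hr.out).mp (hK ▸ Subgroup.index_dvd_of_le (le_sup_left : K ≤ K ⊔ L)) with
    h | h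
  · exact Subgroup.index_eq_one.mp h
  · refine absurd ?_ hL
    have h1 := Subgroup.relIndex_mul_index (le_sup_left : K ≤ K ⊔ L)
    rw [h, hK] at h1
    have h2 : K.relIndex (K ⊔ L) = 1 :=
      Nat.eq_of_mul_eq_mul_right hr.out.pos (h1.trans (one_mul r).symm)
    exact le_sup_right.trans (Subgroup.relIndex_eq_one.mp h2)

theorem root_eq_one (hcop : (Nat.card A).Coprime (Nat.card V)) {d : ℕ} (hd : d ∣ Nat.card A)
    {v : V} (hv : v ^ d = 1) : v = 1 :=
  orderOf_eq_one_iff.mp (Nat.eq_one_of_dvd_coprimes (hcop.coprime_dvd_left hd)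
    (orderOf_dvd_of_pow_eq_one hv) (orderOf_dvd_natCard v))

theorem eq_one_of_fixed_top (hfix : ∀ v, (∀ a, φ a v = v) → v = 1) {K L : Subgroup A}
    (h : K ⊔ L = ⊤) {v : V} (hK : v ∈ cK φ K) (hL : v ∈ cK φ L) : v = 1 := by
  refine hfix v fun a => ?_
  obtain ⟨b, hb, c, hc, rfl⟩ := Subgroup.mem_sup.mp (h ▸ Subgroup.mem_top a : a ∈ K ⊔ L)
  rw [act_mul, hL c hc, hK b hb]

/-- The components are independent. -/
theorem prod_card_cK_le (hcop : (Nat.card A).Coprime (Nat.card V))
    (hfix : ∀ v, (∀ a, φ a v = v) → v = 1) [Fintype {K : Subgroup A // K.index = r}] :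
    ∏ K : {K : Subgroup A // K.index = r}, Nat.card (cK φ K.1) ≤ Nat.card V := by
  classical
  rw [← Nat.card_pi]
  let ψ : (∀ K : {K : Subgroup A // K.index = r}, cK φ K.1) →* V :=
    { toFun := fun c => ∏ K, (c K : V)
      map_one' := by simp
      map_mul' := fun a b => by simp [Finset.prod_mul_distrib] }
  refine Nat.card_le_card_of_injective ψ ((injective_iff_map_eq_one ψ).mpr fun c hc => ?_)
  funext K
  refine Subtype.ext ?_
  have h1 : nrm φ K.1 (∏ L, (c L : V)) = 1 := by rw [show ∏ L, (c L : V) = 1 from hc, map_one]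
  rw [map_prod, Finset.prod_eq_single K (fun L _ hL => ?_) (by simp),
    nrm_of_fixed φ _ _ (c K).2] at h1
  · exact root_eq_one hcop (Subgroup.card_subgroup_dvd_card _) h1
  · refine eq_one_of_fixed_top φ hfix (sup_eq_top_of_index (L := L.1) K.2 fun h => hL ?_) (nrm_mem_cK φ _ _)
      fun l hl => ?_
    · have h1 := Subgroup.relIndex_mul_index h
      rw [K.2, L.2] at h1
      have h2 : L.1.relIndex K.1 = 1 :=
        Nat.eq_of_mul_eq_mul_right hr.out.pos (h1.trans (one_mul r).symm)
      exact Subtype.ext (le_antisymm h (Subgroup.relIndex_eq_one.mp h2))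
    · rw [nrm_apply, map_prod]
      refine Finset.prod_congr rfl fun k _ => ?_
      rw [← act_mul, mul_comm, act_mul, (c L).2 l hl]

theorem exists_mul_pow_eq {i : ℕ} (hi : ¬ r ∣ i) {z : A} (hz : z ^ r = 1) :
    ∃ m, (z ^ i) ^ m = z := by
  obtain ⟨m, hm⟩ := Nat.exists_mul_mod_eq_one_of_coprime
    ((hr.out.coprime_iff_not_dvd.mpr hi).symm) hr.out.one_lt
  exact ⟨m, by rw [← pow_mul, pow_eq_pow_mod _ hz, hm.2, pow_one]⟩

/-- A point all whose norms over subgroups of prime index vanish is trivial. -/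
theorem eq_one_of_nrm (hexp : ∀ a : A, a ^ r = 1) (hcop : (Nat.card A).Coprime (Nat.card V))
    (hA : Nontrivial A) (v : V) (h : ∀ K : Subgroup A, K.index = r → nrm φ K v = 1) : v = 1 := by
  classical
  suffices hmain : ∀ (n : ℕ) (B : Subgroup A), B.index = n → B ≠ ⊤ → nrm φ B v = 1 by
    have h0 := hmain _ ⊥ rfl bot_ne_top
    rw [nrm_apply, Finset.prod_eq_single (1 : A) (fun b hb hb1 => absurd (by simpa using hb) hb1)
      (fun hne => absurd (by simp) hne), act_one] at h0
    exact h0
  intro n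
  induction n using Nat.strong_induction_on with
  | _ n ih => ?_
  intro B hn hB
  rcases eq_or_ne B.index r with hBr | hBr
  · exact h B hBr
  have hcard : ∀ (C : Subgroup A) (z : A), z ∉ C → (C ⊔ Subgroup.zpowers z).index * r = C.index := by
    intro C z hz
    rw [← Subgroup.relIndex_mul_index (le_sup_left : C ≤ C ⊔ Subgroup.zpowers z),
      Subgroup.relIndex_sup_left, mul_comm]
    congr 1
    rcases (Nat.dvd_prime hr.out).mp ((Subgroup.relIndex_dvd_card C (Subgroup.zpowers z)).trans
      (by rw [Nat.card_zpowers]; exact orderOf_dvd_of_pow_eq_one (hexp z))) with e | e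
    · exact absurd (Subgroup.relIndex_eq_one.mp e (Subgroup.mem_zpowers z)) hz
    · exact e.symm
  have hstep : ∀ z, z ∉ B → nm φ r z (nrm φ B v) = 1 := by
    intro z hz
    set C := B ⊔ Subgroup.zpowers z
    have hC := hcard B z hz
    have hCtop : C ≠ ⊤ := fun e => hBr (by
      rw [← hC]; show C.index * r = r; rw [e, Subgroup.index_top, one_mul])
    have hClt : C.index < n := by
      rw [← hn, ← hC]
      exact lt_mul_of_one_lt_right (Nat.pos_of_ne_zero C.index_ne_zero_of_finite) hr.out.one_lt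
    have hCv := ih _ hClt C rfl hCtop
    have hzC : ∀ k : ℕ, z ^ k ∈ C := fun k =>
      Subgroup.mem_sup_right (Subgroup.npow_mem_zpowers z k)
    have hBC : ∀ k ∈ (Set.toFinite (B : Set A)).toFinset, k ∈ C := fun k hk =>
      Subgroup.mem_sup_left (by simpa using hk)
    have hfixed : nm φ r z (nrm φ B v) ∈ cK φ C := by
      intro a ha
      obtain ⟨b, hb, w, hw, rfl⟩ := Subgroup.mem_sup.mp ha
      rw [act_mul]
      have h1 : φ w (nm φ r z (nrm φ B v)) = nm φ r z (nrm φ B v) := by
        obtain ⟨k, rfl⟩ := (IsOfFinOrder.mem_powers_iff_mem_zpowers (isOfFinOrder_of_finite z)).mpr hw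
        show φ (z ^ k) _ = _
        have h2 : φ z (nm φ r z (nrm φ B v)) = nm φ r z (nrm φ B v) :=
          nm_fixed φ r z _ (by rw [hexp, act_one])
        induction k with
        | zero => rw [pow_zero, act_one]
        | succ k ihk =>
          rw [pow_succ, act_mul, h2, ihk (Subgroup.pow_mem _ (Subgroup.mem_zpowers z) k)
            (Subgroup.mem_sup.mpr ⟨b, hb, _, Subgroup.pow_mem _ (Subgroup.mem_zpowers z) k, rfl⟩)]
      rw [h1, nm_apply, map_prod]
      refine Finset.prod_congr rfl fun k _ => ?_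
      rw [← act_mul, mul_comm, act_mul, nrm_mem_cK φ B v b hb]
    have hnorm : nrm φ C (nm φ r z (nrm φ B v)) = 1 := by
      rw [nm_apply, map_prod]
      refine Finset.prod_eq_one fun k _ => ?_
      rw [nrm_translate φ C (hzC k), nrm_apply φ B, map_prod]
      exact Finset.prod_eq_one fun b hb => by rw [nrm_translate φ C (hBC b hb), hCv]
    rw [nrm_of_fixed φ C _ hfixed] at hnorm
    exact root_eq_one hcop (Subgroup.card_subgroup_dvd_card _) hnorm
  obtain ⟨s, hs⟩ : ∃ s, s ∉ B := by
    by_contra hno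
    push Not at hno
    exact hB (eq_top_iff.mpr fun a _ => hno a)
  obtain ⟨t, ht⟩ : ∃ t, t ∉ B ⊔ Subgroup.zpowers s := by
    by_contra hno
    push Not at hno
    refine hBr ?_
    rw [← hcard B s hs, show B ⊔ Subgroup.zpowers s = ⊤ from eq_top_iff.mpr fun a _ => hno a,
      Subgroup.index_top, one_mul]
  have htpow : ∀ i : ℕ, ¬ r ∣ i → t ^ i ∉ B ⊔ Subgroup.zpowers s := by
    intro i hi hmem
    obtain ⟨m, hm⟩ := exists_mul_pow_eq hi (hexp t)
    exact ht (hm ▸ Subgroup.pow_mem _ hmem m)
  set w := nrm φ B v with hw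
  have h1 : ∏ i ∈ Finset.range r, nm φ r (s * t ^ i) w = 1 := by
    refine Finset.prod_eq_one fun i hi => hstep _ fun hmem => ?_
    have h2 : t ^ i ∈ B ⊔ Subgroup.zpowers s := by
      have := Subgroup.mul_mem (B ⊔ Subgroup.zpowers s)
        (Subgroup.inv_mem _ (Subgroup.mem_sup_right (Subgroup.mem_zpowers s)))
        (Subgroup.mem_sup_left hmem)
      rwa [inv_mul_cancel_left] at this
    rcases Nat.eq_zero_or_pos i with rfl | hpos
    · rw [pow_zero, mul_one] at hmem
      exact hs hmem
    · exact htpow i (Nat.not_dvd_of_pos_of_lt hpos (Finset.mem_range.mp hi)) h2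
  simp only [nm_apply] at h1
  rw [Finset.prod_comm, Finset.prod_eq_single 0 ?_ (by simp [hr.out.ne_zero])] at h1
  · simp only [pow_zero, act_one, Finset.prod_const, Finset.card_range] at h1
    refine root_eq_one hcop ?_ h1
    haveI := hA
    obtain ⟨x, hx⟩ := exists_ne (1 : A)
    exact orderOf_eq_prime (hexp x) hx ▸ orderOf_dvd_natCard x
  · intro j hj hj0
    have hj' : ¬ r ∣ j :=
      Nat.not_dvd_of_pos_of_lt (Nat.pos_of_ne_zero hj0) (Finset.mem_range.mp hj)
    have h2 := hstep (t ^ j) fun hmem => htpow j hj' (Subgroup.mem_sup_left hmem)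
    rw [nm_apply] at h2
    rw [← map_one (φ (s ^ j)), ← h2, map_prod]
    refine Finset.prod_congr rfl fun i _ => ?_
    rw [← act_mul, mul_pow, ← pow_mul, ← pow_mul, mul_comm i j]

/-- The product bound on a coset. -/
theorem coset_bound (hexp : ∀ a : A, a ^ r = 1) (hA : Nontrivial A)
    (hcop : (Nat.card A).Coprime (Nat.card V)) (hfix : ∀ v, (∀ a, φ a v = v) → v = 1)
    (hT : ∀ a v, T (φ a v) = φ (σ a) (T v)) [Fintype A] :
    (∏ a : A, Nat.card (MonoidHom.eqLocus (T * φ a).toMonoidHom (MonoidHom.id V))) ^ 2 ≤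
      Nat.card V ^ Nat.card A := by
  classical
  letI : Fintype {K : Subgroup A // K.index = r} := Fintype.ofFinite _
  let F : A → Subgroup V := fun a => MonoidHom.eqLocus (T * φ a).toMonoidHom (MonoidHom.id V)
  have hF : ∀ a v, v ∈ F a ↔ T (φ a v) = v := fun a v => Iff.rfl
  let σK : {K : Subgroup A // K.index = r} → {K : Subgroup A // K.index = r} :=
    fun K => ⟨K.1.map σ.toMonoidHom, (Subgroup.index_map_equiv K.1 σ).trans K.2⟩
  let e := Fintype.equivFin {K : Subgroup A // K.index = r}
  let b : A → {K : Subgroup A // K.index = r} → ℕ := fun a K =>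
    if σK K = K then Nat.card (F a ⊓ cK φ K.1 : Subgroup V) ^ 2 else Nat.card (cK φ K.1)
  have hcomm : ∀ (a : A) K v, nrm φ K (φ a v) = φ a (nrm φ K v) := by
    intro a K v
    rw [nrm_apply, nrm_apply, map_prod]
    refine Finset.prod_congr rfl fun k _ => ?_
    rw [← act_mul, ← act_mul, mul_comm]
  have htw : ∀ a v, v ∈ F a → ∀ K : {K : Subgroup A // K.index = r},
      nrm φ (σK K).1 v = T (φ a (nrm φ K.1 v)) := by
    intro a v hv K
    rw [← hcomm, nrm_twist φ σ T hT, (hF a v).mp hv]
  -- one element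
  have hone : ∀ a, Nat.card (F a) ^ 2 ≤ ∏ K, b a K := by
    intro a
    let S : {K : Subgroup A // K.index = r} → Subgroup (V × V) := fun K =>
      if σK K = K then (F a ⊓ cK φ K.1).prod (F a ⊓ cK φ K.1) else (cK φ K.1).prod ⊥
    have hS : ∀ K, Nat.card (S K) = b a K := fun K => by
      by_cases hK : σK K = K
      · simp only [S, b, if_pos hK]
        rw [Nat.card_congr (Subgroup.prodEquiv _ _).toEquiv, Nat.card_prod, pow_two]
      · simp only [S, b, if_neg hK]
        rw [Nat.card_congr (Subgroup.prodEquiv _ _).toEquiv, Nat.card_prod, Subgroup.card_bot,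
          mul_one]
    rw [← Finset.prod_congr rfl (fun K _ => hS K), ← Nat.card_pi, pow_two, ← Nat.card_prod]
    let g : {K : Subgroup A // K.index = r} → F a × F a → V × V := fun K u =>
      if σK K = K then (nrm φ K.1 (u.1 : V), nrm φ K.1 (u.2 : V))
      else if e K < e (σK K) then (nrm φ K.1 (u.1 : V), 1) else (nrm φ K.1 (u.2 : V), 1)
    have hg : ∀ K u, g K u ∈ S K := fun K u => by
      by_cases hK : σK K = K
      · simp only [g, S, if_pos hK]
        have hkeep : ∀ v ∈ F a, nrm φ K.1 v ∈ F a := fun v hv => by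
          rw [hF, ← htw a v hv, hK]
        exact ⟨⟨hkeep _ u.1.2, nrm_mem_cK φ _ _⟩, ⟨hkeep _ u.2.2, nrm_mem_cK φ _ _⟩⟩
      · simp only [g, S, if_neg hK]
        split_ifs
        · exact ⟨nrm_mem_cK φ _ _, rfl⟩
        · exact ⟨nrm_mem_cK φ _ _, rfl⟩
    refine Nat.card_le_card_of_injective (fun u K => (⟨g K u, hg K u⟩ : S K)) ?_
    have key : ∀ v ∈ F a,
        ((∀ K, σK K = K ∨ e K < e (σK K) → nrm φ K.1 v = 1) ∨
          (∀ K, σK K = K ∨ ¬ e K < e (σK K) → nrm φ K.1 v = 1)) → v = 1 := by
      intro v hv hor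
      refine eq_one_of_nrm φ hexp hcop hA v fun K hK => ?_
      by_contra hne
      set Z := Finset.univ.filter fun K : {K : Subgroup A // K.index = r} => nrm φ K.1 v ≠ 1
      have hZ : Z.Nonempty := ⟨⟨K, hK⟩, by simp [Z, hne]⟩
      have hσZ : ∀ L ∈ Z, σK L ∈ Z := fun L hL => by
        simp only [Z, Finset.mem_filter, Finset.mem_univ, true_and] at hL ⊢
        rw [htw a v hv L]
        exact fun h0 => hL ((φ a).injective (T.injective (h0.trans (by simp))))
      rcases hor with hor | hor
      · obtain ⟨L, hL, hmin⟩ := Finset.exists_min_image Z e hZ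
        refine (Finset.mem_filter.mp hL).2 (hor L ?_)
        rcases eq_or_ne (σK L) L with h0 | h0
        · exact Or.inl h0
        · exact Or.inr (lt_of_le_of_ne (hmin _ (hσZ L hL)) fun h1 => h0 (e.injective h1).symm)
      · obtain ⟨L, hL, hmax⟩ := Finset.exists_max_image Z e hZ
        exact (Finset.mem_filter.mp hL).2 (hor L (Or.inr (not_lt.mpr (hmax _ (hσZ L hL)))))
    rintro ⟨⟨v, hv⟩, ⟨w, hw⟩⟩ ⟨⟨v', hv'⟩, ⟨w', hw'⟩⟩ heq
    have hK : ∀ K, g K (⟨v, hv⟩, ⟨w, hw⟩) = g K (⟨v', hv'⟩, ⟨w', hw'⟩) := fun K =>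
      congrArg Subtype.val (congrFun heq K)
    have hv1 : v * v'⁻¹ = 1 := key _ ((F a).mul_mem hv ((F a).inv_mem hv')) <| Or.inl fun K hKR => by
      have h0 := congrArg Prod.fst (hK K)
      rw [map_mul, map_inv, mul_inv_eq_one]
      by_cases hfK : σK K = K
      · simpa [g, hfK] using h0
      · simpa [g, hfK, hKR.resolve_left hfK] using h0
    have hw1 : w * w'⁻¹ = 1 := key _ ((F a).mul_mem hw ((F a).inv_mem hw')) <| Or.inr fun K hKR => by
      have h0 := hK K
      rw [map_mul, map_inv, mul_inv_eq_one]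
      by_cases hfK : σK K = K
      · simpa [g, hfK] using congrArg Prod.snd h0
      · simpa [g, hfK, hKR.resolve_left hfK] using congrArg Prod.fst h0
    simp only [Prod.mk.injEq, Subtype.mk.injEq]
    exact ⟨mul_inv_eq_one.mp hv1, mul_inv_eq_one.mp hw1⟩
  -- one component
  have hcomp : ∀ K : {K : Subgroup A // K.index = r},
      ∏ a, b a K ≤ Nat.card (cK φ K.1) ^ Nat.card A := by
    intro K
    by_cases hK : σK K = K
    · simp only [b, if_pos hK]
      set D : A → Subgroup V := fun a => F a ⊓ cK φ K.1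
      obtain ⟨m, hm⟩ : ∃ m, m ∉ K.1 := by
        by_contra hno
        push Not at hno
        have h1 := K.2
        rw [show K.1 = ⊤ from eq_top_iff.mpr fun a _ => hno a, Subgroup.index_top] at h1
        exact hr.out.ne_one h1.symm
      have hpair : ∀ a, Nat.card (D a) * Nat.card (D (a * m)) ≤ Nat.card (cK φ K.1) := by
        intro a
        rw [← Nat.card_prod]
        refine Nat.card_le_card_of_injective
          (fun x : D a × D (a * m) => (⟨(x.1 : V) * x.2, (cK φ K.1).mul_mem x.1.2.2 x.2.2.2⟩ :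
            cK φ K.1)) ?_
        rintro ⟨⟨x, hx⟩, ⟨y, hy⟩⟩ ⟨⟨x', hx'⟩, ⟨y', hy'⟩⟩ h
        have h' : x * y = x' * y' := congrArg Subtype.val h
        have h1 : x'⁻¹ * x = y' * y⁻¹ := by
          rw [eq_mul_inv_iff_mul_eq, mul_assoc, h', inv_mul_cancel_left]
        have hmem1 : x'⁻¹ * x ∈ D a := (D a).mul_mem ((D a).inv_mem hx') hx
        have hmem2 : x'⁻¹ * x ∈ D (a * m) :=
          h1 ▸ (D (a * m)).mul_mem hy' ((D (a * m)).inv_mem hy)
        have hu : x'⁻¹ * x = 1 := by
          refine eq_one_of_fixed_top φ hfix (L := Subgroup.zpowers m)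
            (sup_eq_top_of_index K.2 fun hle => hm (hle (Subgroup.mem_zpowers m))) hmem1.2 ?_
          have e1 := (hF _ _).mp hmem1.1
          have e2 := (hF _ _).mp hmem2.1
          rw [act_mul] at e2
          have e3 := (φ a).injective (T.injective (e2.trans e1.symm))
          let Sv : Subgroup A :=
            { carrier := {k | φ k (x'⁻¹ * x) = x'⁻¹ * x}
              one_mem' := act_one φ _
              mul_mem' := fun {p q} hp hq => show φ (p * q) _ = _ by rw [act_mul, hq, hp]
              inv_mem' := fun {p} hp => show φ p⁻¹ _ = _ by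
                conv_lhs => arg 2; rw [← hp]
                rw [← act_mul, inv_mul_cancel, act_one] }
          exact fun k hk => (Subgroup.zpowers_le.mpr (show m ∈ Sv from e3)) hk
        obtain rfl : x = x' := (inv_mul_eq_one.mp hu).symm
        obtain rfl := mul_left_cancel h'
        rfl
      calc ∏ a, Nat.card (D a) ^ 2
          = (∏ a, Nat.card (D a)) * ∏ a, Nat.card (D (a * m)) := by
            rw [Finset.prod_pow, pow_two]
            exact congrArg _ (Equiv.prod_comp (Equiv.mulRight m) fun a => Nat.card (D a)).symm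
        _ = ∏ a, Nat.card (D a) * Nat.card (D (a * m)) := Finset.prod_mul_distrib.symm
        _ ≤ ∏ _a : A, Nat.card (cK φ K.1) := Finset.prod_le_prod' fun a _ => hpair a
        _ = Nat.card (cK φ K.1) ^ Nat.card A := by
            rw [Finset.prod_const, Finset.card_univ, Nat.card_eq_fintype_card (α := A)]
    · simp only [b, if_neg hK, Finset.prod_const, Finset.card_univ,
        Nat.card_eq_fintype_card (α := A), le_refl]
  calc (∏ a : A, Nat.card (F a)) ^ 2 = ∏ a : A, Nat.card (F a) ^ 2 := (Finset.prod_pow _ _ _).symm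
    _ ≤ ∏ a : A, ∏ K, b a K := Finset.prod_le_prod' fun a _ => hone a
    _ = ∏ K, ∏ a : A, b a K := Finset.prod_comm
    _ ≤ ∏ K : {K : Subgroup A // K.index = r}, Nat.card (cK φ K.1) ^ Nat.card A :=
        Finset.prod_le_prod' fun K _ => hcomp K
    _ = (∏ K : {K : Subgroup A // K.index = r}, Nat.card (cK φ K.1)) ^ Nat.card A :=
        Finset.prod_pow _ _ _
    _ ≤ Nat.card V ^ Nat.card A := Nat.pow_le_pow_left (prod_card_cK_le φ hcop hfix) _

end CfsgLib.PrimitiveClassSize
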